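import Mathlib

/-!
# GammaFF, (S1), the non-split case: bi-additive maps `K × K → A`, `|K| = 4` (#21629, #22372)

`β : K → K → A` bi-additive; `PP β a d = ∑ c, β c (a c² + d² c)`.

* `PP_add` : `PP β` is additive; `PP_eq` : `β c t = PP β (c t) (c t²)`;
* `PP_map` : `PP β · 0` is natural: `φ (β c t) = β' (C c) (T t)`, `C c * T t = g (c t)` ⟹ `φ (PP β a 0) = PP β' (g a) 0`;
* `star` (`(*)`) : for `y`, `x` in the range of `PP β`, `e x = 0 ≠ x`, `e y ≠ 0`: `y` or `x + y` is a value `β c t`,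
  `c, t ≠ 0`.
-/

set_option autoImplicit false
set_option linter.unusedSectionVars false

namespace Cfsg.Agent.Omega.NO3S.SOne.NS

section field

variable {K : Type*} [Field K] [Fintype K] [CharP K 2]

theorem pow_four (h4 : Fintype.card K = 4) (x : K) : x ^ 4 = x := by
  have := FiniteField.pow_card x
  rwa [h4] at this

theorem pow_three (h4 : Fintype.card K = 4) {x : K} (hx : x ≠ 0) : x ^ 3 = 1 := by
  have h1 := FiniteField.pow_card_sub_one_eq_one x hx
  rwa [h4] at h1

theorem sum_id (h4 : Fintype.card K = 4) : ∑ c : K, c = 0 := by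
  have h1 := FiniteField.sum_pow_lt_card_sub_one K 1 (by rw [h4]; norm_num)
  simpa using h1

theorem sum_sq (h4 : Fintype.card K = 4) : ∑ c : K, c ^ 2 = 0 :=
  FiniteField.sum_pow_lt_card_sub_one K 2 (by rw [h4]; norm_num)

theorem sum_cube (h4 : Fintype.card K = 4) : ∑ c : K, c ^ 3 = 1 := by
  classical
  have h1 : ∀ c : K, c ^ 3 = if c = 0 then 0 else 1 := by
    intro c
    split_ifs with hc
    · rw [hc]; ring
    · exact pow_three h4 hc
  have h2 : (2 : K) = 0 := CharTwo.two_eq_zero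
  rw [Finset.sum_congr rfl fun c _ => h1 c, Finset.sum_ite, Finset.sum_const_zero, zero_add, Finset.sum_const,
    Finset.filter_ne' Finset.univ (0 : K), Finset.card_erase_of_mem (Finset.mem_univ _), Finset.card_univ, h4]
  simp only [Nat.add_one_sub_one, nsmul_eq_mul, mul_one]
  norm_num
  linear_combination h2

/-- `c c' (c' + c) = 1` for `c ≠ 0`, `c' ∉ {0, c}` -/
theorem mul_mul_add (h4 : Fintype.card K = 4) {c d : K} (hc : c ≠ 0) (hd : d ≠ 0) (hdc : d ≠ c) :
    c * d * (d + c) = 1 := by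
  have h2 : (2 : K) = 0 := CharTwo.two_eq_zero
  have h3 : d + c ≠ 0 := fun h => hdc (CharTwo.add_eq_zero.1 h)
  have h5 := pow_three h4 hc
  have h6 := pow_three h4 hd
  have h7 := pow_three h4 h3
  have h8 : 3 * (c * d * (d + c)) = (d + c) ^ 3 - c ^ 3 - d ^ 3 := by ring
  rw [h5, h6, h7] at h8
  linear_combination h8 - (c * d * (d + c) + 1) * h2

end field

section bi

variable {K : Type*} [Field K] [Fintype K] [CharP K 2] {A : Type*} [AddCommGroup A]

/-- bi-additive -/
structure Bi (β : K → K → A) : Prop where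
  addl : ∀ c c' t, β (c + c') t = β c t + β c' t
  addr : ∀ c t t', β c (t + t') = β c t + β c t'

/-- `∑ c, β c (a c² + d² c)` -/
def PP (β : K → K → A) (a d : K) : A := ∑ c : K, β c (a * c ^ 2 + d ^ 2 * c)

variable {β : K → K → A} (h : Bi β)
include h

theorem Bi.zerol (t : K) : β 0 t = 0 := by
  have h1 := h.addl 0 0 t
  rw [add_zero] at h1
  exact left_eq_add.1 h1

theorem Bi.zeror (c : K) : β c 0 = 0 := by
  have h1 := h.addr c 0 0
  rw [add_zero] at h1
  exact left_eq_add.1 h1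

theorem Bi.sum (s : Finset K) (t : K) : ∑ c ∈ s, β c t = β (∑ c ∈ s, c) t := by
  classical
  induction s using Finset.induction_on with
  | empty => rw [Finset.sum_empty, Finset.sum_empty, h.zerol]
  | insert a s has ih => rw [Finset.sum_insert has, Finset.sum_insert has, h.addl, ih]

theorem PP_add (a a' d d' : K) : PP β (a + a') (d + d') = PP β a d + PP β a' d' := by
  rw [PP, PP, PP, ← Finset.sum_add_distrib]
  refine Finset.sum_congr rfl fun c _ => ?_
  rw [← h.addr]
  congr 1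
  rw [CharTwo.add_sq d d']
  ring

theorem PP_zero : PP β 0 0 = 0 := by
  have h1 := PP_add h 0 0 0 0
  rw [add_zero] at h1
  exact left_eq_add.1 h1

/-- `β` factors through `(c t, c t²)`. -/
theorem PP_eq (h4 : Fintype.card K = 4) (c t : K) : PP β (c * t) (c * t ^ 2) = β c t := by
  classical
  by_cases hc : c = 0
  · subst hc
    rw [h.zerol, zero_mul, zero_mul, PP_zero h]
  have h1 : ∀ d : K, c * t * d ^ 2 + (c * t ^ 2) ^ 2 * d = t * (c * d * (d + c)) := by
    intro d
    have h2 : (c * t ^ 2) ^ 2 = c ^ 2 * t := by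
      rw [mul_pow, ← pow_mul, pow_four h4]
    rw [h2]; ring
  have h2 : PP β (c * t) (c * t ^ 2) = ∑ d ∈ (Finset.univ.erase (0 : K)).erase c, β d t := by
    rw [PP, ← Finset.add_sum_erase _ _ (Finset.mem_univ (0 : K)), h.zerol, zero_add,
      ← Finset.add_sum_erase _ _ (Finset.mem_erase.2 ⟨hc, Finset.mem_univ c⟩), h1 c,
      CharTwo.add_self_eq_zero, mul_zero, mul_zero, h.zeror, zero_add]
    refine Finset.sum_congr rfl fun d hd => ?_
    have h3 := Finset.mem_erase.1 hd
    have h4' := Finset.mem_erase.1 h3.2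
    rw [h1 d, mul_mul_add h4 hc h4'.1 h3.1, mul_one]
  rw [h2, h.sum]
  congr 1
  have h3 := sum_id (K := K) h4
  rw [← Finset.add_sum_erase _ _ (Finset.mem_univ (0 : K)), zero_add,
    ← Finset.add_sum_erase _ _ (Finset.mem_erase.2 ⟨hc, Finset.mem_univ c⟩)] at h3
  exact (CharTwo.add_eq_zero.1 h3).symm

theorem e_PP (h4 : Fintype.card K = 4) {e : A →+ K} (he : ∀ c t, e (β c t) = c * t) (a d : K) :
    e (PP β a d) = a := by
  rw [PP, map_sum]
  have h1 : ∀ c : K, e (β c (a * c ^ 2 + d ^ 2 * c)) = a * c ^ 3 + d ^ 2 * c ^ 2 := by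
    intro c
    rw [he]; ring
  rw [Finset.sum_congr rfl fun c _ => h1 c, Finset.sum_add_distrib, ← Finset.mul_sum, ← Finset.mul_sum,
    sum_cube h4, sum_sq h4, mul_one, mul_zero, add_zero]

/-- **`(*)`** -/
theorem star (h4 : Fintype.card K = 4) {e : A →+ K} (he : ∀ c t, e (β c t) = c * t) {a d a' d' : K}
    (hx : e (PP β a' d') = 0) (hx0 : PP β a' d' ≠ 0) (hy : e (PP β a d) ≠ 0) :
    (∃ c t, c ≠ 0 ∧ t ≠ 0 ∧ PP β a d = β c t) ∨ ∃ c t, c ≠ 0 ∧ t ≠ 0 ∧ PP β a' d' + PP β a d = β c t := by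
  rw [e_PP h h4 he] at hx hy
  subst hx
  have hd' : d' ≠ 0 := by
    rintro rfl
    exact hx0 (PP_zero h)
  -- pure values
  have key : ∀ d : K, d ≠ 0 → ∃ c t, c ≠ 0 ∧ t ≠ 0 ∧ PP β a d = β c t := by
    intro d hd
    refine ⟨a ^ 2 / d, d / a, div_ne_zero (pow_ne_zero _ hy) hd, div_ne_zero hd hy, ?_⟩
    rw [← PP_eq h h4]
    congr 1
    · field_simp
    · field_simp
  by_cases hd : d = 0
  · right
    subst hd
    rw [← PP_add h, zero_add, add_zero]
    exact key d' hd'
  · exact Or.inl (key d hd)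

end bi

/-- `PP · · 0` is natural. -/
theorem PP_map {K K' : Type*} [Field K] [Fintype K] [CharP K 2] [Field K'] [Fintype K'] [CharP K' 2]
    (h4 : Fintype.card K = 4) (h4' : Fintype.card K' = 4)
    {A A' : Type*} [AddCommGroup A] [AddCommGroup A'] {β : K → K → A} {β' : K' → K' → A'} (h' : Bi β')
    (φ : A →+ A') {C T g : K → K'} (hC : Function.Bijective C) (hC0 : C 0 = 0)
    (hφ : ∀ c t, φ (β c t) = β' (C c) (T t)) (hg : ∀ c t, C c * T t = g (c * t)) (a : K) :
    φ (PP β a 0) = PP β' (g a) 0 := by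
  rw [PP, map_sum, PP]
  have h1 : ∀ c : K, φ (β c (a * c ^ 2 + 0 ^ 2 * c)) = β' (C c) (g a * C c ^ 2 + 0 ^ 2 * C c) := by
    intro c
    rw [hφ]
    by_cases hc : c = 0
    · subst hc
      rw [hC0, h'.zerol, h'.zerol]
    have hCc : C c ≠ 0 := by
      rw [← hC0]
      exact fun h1 => hc (hC.1 h1)
    congr 1
    have h2 := hg c (a * c ^ 2 + 0 ^ 2 * c)
    have h3 : c * (a * c ^ 2 + 0 ^ 2 * c) = a := by
      have := pow_three h4 hc
      linear_combination a * this
    rw [h3] at h2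
    have h5 := pow_three h4' hCc
    have h6 : T (a * c ^ 2 + 0 ^ 2 * c) = C c ^ 3 * T (a * c ^ 2 + 0 ^ 2 * c) := by rw [h5, one_mul]
    rw [h6, ← h2]
    ring
  rw [Finset.sum_congr rfl fun c _ => h1 c]
  exact hC.sum_comp fun c => β' c (g a * c ^ 2 + 0 ^ 2 * c)

end Cfsg.Agent.Omega.NO3S.SOne.NS
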