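import Cfsg.Agent.Omega.FFThmM
import Cfsg.Agent.Omega.NOne.Flat.Base

/-!
# GammaFF, (S1), the non-split case: families of subgroups over the blocks

* `inf_le_biSup` : `Y l ≤ V`, `Kz l ≤ V` the elements with `l`-component `0`: `(⨆ l ∈ J, Y l) ∩ D ≤ ⨆ l ∈ J, Y l ∩ D`;
* `iSup_inf_le` : for `M : NatK K S P V D k` and `Y ≤ V` with only a `j`-component:
  `(⨆ s, Y^s) ∩ D ≤ ⨆ s, (Y ∩ D)^s`.
-/

set_option autoImplicit false

namespace Cfsg.Agent.Omega.NO3S.SOne.NS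

open Subgroup Cfsg Cfsg.Agent.ZN Cfsg.Agent.Omega.FFThm
open Cfsg.Agent.Omega.NoFF.Basic (mem_conj conj_le_iff)
open scoped Pointwise

universe u

variable {G : Type u} [Group G]

section pure

theorem sup_mul {V A B : Subgroup G} (hc : ∀ v ∈ V, ∀ w ∈ V, v * w = w * v) (hA : A ≤ V) (hB : B ≤ V) {x : G}
    (hx : x ∈ A ⊔ B) : ∃ a ∈ A, ∃ b ∈ B, x = a * b := by
  have h2 : B ≤ normalizer (A : Set G) := by
    intro b hb
    rw [mem_normalizer_iff]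
    intro a
    have key : ∀ b ∈ B, ∀ a ∈ A, b * a * b⁻¹ ∈ A := by
      intro b hb a ha
      rw [hc b (hB hb) a (hA ha), mul_inv_cancel_right]
      exact ha
    refine ⟨key b hb a, fun h => ?_⟩
    have h1 := key b⁻¹ (inv_mem hb) _ h
    have e : b⁻¹ * (b * a * b⁻¹) * b⁻¹⁻¹ = a := by group
    rwa [e] at h1
  have h3 : x ∈ ((A : Set G) * (B : Set G)) := by
    rw [← coe_mul_of_right_le_normalizer_left _ _ h2]
    exact hx
  obtain ⟨a, ha, b, hb, rfl⟩ := Set.mem_mul.1 h3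
  exact ⟨a, ha, b, hb, rfl⟩

theorem inf_le_biSup {ι : Type*} [DecidableEq ι] {V D : Subgroup G} (hc : ∀ v ∈ V, ∀ w ∈ V, v * w = w * v)
    {Y Kz : ι → Subgroup G} (hY : ∀ l, Y l ≤ V) (h1 : ∀ l m, m ≠ l → Y m ≤ Kz l) (h2 : ∀ l, Y l ⊓ Kz l ≤ D)
    (h3 : ∀ l, D ≤ Kz l) (J : Finset ι) : (⨆ l ∈ J, Y l) ⊓ D ≤ ⨆ l ∈ J, (Y l ⊓ D) := by
  induction J using Finset.induction_on with
  | empty => simp
  | insert a J ha ih =>
    rw [Finset.iSup_insert, Finset.iSup_insert]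
    intro x hx
    have hJV : (⨆ l ∈ J, Y l) ≤ V := iSup₂_le fun l _ => hY l
    have hJK : (⨆ l ∈ J, Y l) ≤ Kz a := iSup₂_le fun l hl => h1 a l fun h => ha (h ▸ hl)
    obtain ⟨y, hy, z, hz, rfl⟩ := sup_mul hc (hY a) hJV hx.1
    have h4 : y ∈ Kz a := by
      have e : y = y * z * z⁻¹ := by group
      rw [e]
      exact mul_mem (h3 a hx.2) (inv_mem (hJK hz))
    have h5 : y ∈ D := h2 a ⟨hy, h4⟩
    have h6 : z ∈ D := by
      have e : z = y⁻¹ * (y * z) := by group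
      rw [e]
      exact mul_mem (inv_mem h5) hx.2
    exact mul_mem (mem_sup_left (mem_inf.2 ⟨hy, h5⟩)) (mem_sup_right (ih ⟨hz, h6⟩))

end pure

section nat

variable {K : Type} [Field K] {S P V D : Subgroup G} {k : ℕ} (M : NatK K S P V D k)

/-- `s` permutes the blocks by `σ`. -/
def Mvd (s : G) (σ : Equiv.Perm (Fin k)) : Prop := ∀ v ∈ V, ∀ i, M.e (s * v * s⁻¹) (σ i) = 0 ↔ M.e v i = 0

/-- The elements with zero `l`-component. -/
def Kz (l : Fin k) : Subgroup G where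
  carrier := {v | v ∈ V ∧ M.e v l = 0}
  one_mem' := by
    refine ⟨one_mem _, ?_⟩
    have h := M.mul 1 (one_mem _) 1 (one_mem _)
    rw [one_mul] at h
    exact congrFun (left_eq_add.1 h) l
  mul_mem' := by
    rintro a b ⟨ha, ha'⟩ ⟨hb, hb'⟩
    exact ⟨mul_mem ha hb, by rw [M.mul a ha b hb, Pi.add_apply, ha', hb', add_zero]⟩
  inv_mem' := by
    rintro a ⟨ha, ha'⟩
    refine ⟨inv_mem ha, ?_⟩
    have h := M.mul a ha a⁻¹ (inv_mem ha)
    have h1 := M.mul 1 (one_mem _) 1 (one_mem _)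
    rw [one_mul] at h1
    rw [mul_inv_cancel, left_eq_add.1 h1] at h
    have h2 := congrFun h l
    rw [Pi.add_apply, ha', zero_add] at h2
    exact h2.symm

variable {M}

theorem mem_Kz {l : Fin k} {v : G} : v ∈ Kz M l ↔ v ∈ V ∧ M.e v l = 0 := Iff.rfl

theorem Mvd.mul {s t : G} {σ τ : Equiv.Perm (Fin k)} (hPV : P ≤ normalizer (V : Set G)) (ht : t ∈ P)
    (h : Mvd M s σ) (h' : Mvd M t τ) : Mvd M (s * t) (σ * τ) := by
  intro v hv i
  have e : s * t * v * (s * t)⁻¹ = s * (t * v * t⁻¹) * s⁻¹ := by group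
  rw [e, Equiv.Perm.mul_apply, h _ ((mem_normalizer_iff.1 (hPV ht) v).1 hv), h' v hv]

theorem Mvd.inv {s : G} {σ : Equiv.Perm (Fin k)} (hPV : P ≤ normalizer (V : Set G)) (hs : s ∈ P)
    (h : Mvd M s σ) : Mvd M s⁻¹ σ⁻¹ := by
  intro v hv i
  have h1 := h (s⁻¹ * v * s⁻¹⁻¹) ((mem_normalizer_iff.1 (hPV (inv_mem hs)) v).1 hv) (σ⁻¹ i)
  rw [show σ (σ⁻¹ i) = i from σ.apply_symm_apply i] at h1
  rw [← h1]
  have h2 : s * (s⁻¹ * v * s⁻¹⁻¹) * s⁻¹ = v := by group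
  rw [h2]

/-- `S` is transitive on the blocks. -/
theorem exists_Mvd (hSP : S ≤ P) (hPV : P ≤ normalizer (V : Set G)) (i j : Fin k) :
    ∃ s ∈ S, ∃ σ, Mvd M s σ ∧ σ i = j := by
  classical
  obtain ⟨t, ht, h1⟩ := M.trans i j
  obtain ⟨σ, hσ⟩ := M.perm t (hSP ht)
  refine ⟨t, ht, σ, hσ, ?_⟩
  by_contra hne
  -- a vector whose image has only a `j`-component
  obtain ⟨w, hw, he⟩ := M.surj (Pi.single j ![1, 0])
  have h2 : t⁻¹ * w * t⁻¹⁻¹ ∈ V := (mem_normalizer_iff.1 (hPV (inv_mem (hSP ht))) w).1 hw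
  have e : t * (t⁻¹ * w * t⁻¹⁻¹) * t⁻¹ = w := by group
  have h3 := h1 _ h2
  have h4 := hσ _ h2 i
  rw [e, he] at h3 h4
  rw [Pi.single_eq_same] at h3
  rw [Pi.single_eq_of_ne hne] at h4
  have h5 := h3.2 (h4.1 rfl)
  have := congrFun h5 0
  simp at this

/-- **The family of the conjugates of `Y`.** -/
theorem iSup_inf_le (hSP : S ≤ P) (hPV : P ≤ normalizer (V : Set G)) (hc : ∀ v ∈ V, ∀ w ∈ V, v * w = w * v)
    (hDV : D ≤ V) {Y : Subgroup G} (hYV : Y ≤ V) {j : Fin k} (hY : ∀ y ∈ Y, ∀ i, i ≠ j → M.e y i = 0)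
    (hsame : ∀ s ∈ S, ∀ σ, Mvd M s σ → σ j = j → MulAut.conj s • Y = Y) :
    (⨆ s : S, MulAut.conj (s : G) • Y) ⊓ D ≤ ⨆ s : S, MulAut.conj (s : G) • (Y ⊓ D) := by
  classical
  choose s hs σ hσ hσj using fun l : Fin k => exists_Mvd (M := M) hSP hPV j l
  -- every conjugate is one of the `Y^(s l)`
  have h1 : ∀ t ∈ S, ∃ l, MulAut.conj t • Y = MulAut.conj (s l) • Y := by
    intro t ht
    obtain ⟨τ, hτ⟩ := M.perm t (hSP ht)
    refine ⟨τ j, ?_⟩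
    have h2 := hsame _ (S.mul_mem (S.inv_mem (hs (τ j))) ht) _
      (((hσ (τ j)).inv hPV (hSP (hs (τ j)))).mul hPV (hSP ht) hτ) (by
        rw [Equiv.Perm.mul_apply, Equiv.Perm.inv_eq_iff_eq, hσj])
    rw [map_mul, mul_smul, map_inv, inv_smul_eq_iff] at h2
    exact h2
  have h2 : (⨆ s : S, MulAut.conj (s : G) • Y) ≤ ⨆ l ∈ (Finset.univ : Finset (Fin k)), MulAut.conj (s l) • Y := by
    refine iSup_le fun t => ?_
    obtain ⟨l, hl⟩ := h1 t t.2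
    rw [hl]
    exact le_iSup₂_of_le l (Finset.mem_univ l) le_rfl
  have hcV : ∀ l, MulAut.conj (s l) • Y ≤ V := by
    intro l y hy
    rw [mem_conj] at hy
    have h3 := (mem_normalizer_iff.1 (hPV (hSP (hs l))) _).1 (hYV hy)
    have e : s l * ((s l)⁻¹ * y * s l) * (s l)⁻¹ = y := by group
    rwa [e] at h3
  have hel : ∀ l, ∀ y ∈ MulAut.conj (s l) • Y, ∀ i, i ≠ l → M.e y i = 0 := by
    intro l y hy i hi
    rw [mem_conj] at hy
    have h3 := (hσ l _ (hYV hy) ((σ l).symm i)).2 (hY _ hy _ fun h => hi (by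
      rw [← hσj l, ← h, (σ l).apply_symm_apply]))
    have e : s l * ((s l)⁻¹ * y * s l) * (s l)⁻¹ = y := by group
    rwa [e, (σ l).apply_symm_apply] at h3
  have h0D : ∀ l, D ≤ Kz M l := fun l d hd => ⟨hDV hd, by rw [(M.ker d (hDV hd)).2 hd]; rfl⟩
  have key := inf_le_biSup (V := V) (D := D) hc (Y := fun l => MulAut.conj (s l) • Y) (Kz := Kz M) hcV
    (fun l m hm y hy => ⟨hcV m hy, hel m y hy l (Ne.symm hm)⟩) (fun l y hy => by
      refine (M.ker y hy.2.1).1 (funext fun i => ?_)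
      by_cases hi : i = l
      · rw [hi]; exact hy.2.2
      · exact hel l y hy.1 i hi) h0D Finset.univ
  refine (inf_le_inf_right _ h2).trans (key.trans (iSup₂_le fun l _ => ?_))
  refine le_trans ?_ (le_iSup (fun t : S => MulAut.conj (t : G) • (Y ⊓ D)) ⟨s l, hs l⟩)
  intro y hy
  rw [mem_conj]
  refine ⟨mem_conj.1 hy.1, ?_⟩
  -- `D` is normalised by `P`
  have h3 := mem_conj.1 hy.1
  refine (M.ker _ (hYV h3)).1 (funext fun i => ?_)
  have h4 := hσ l _ (hYV h3) i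
  have e : s l * ((s l)⁻¹ * y * s l) * (s l)⁻¹ = y := by group
  rw [e, (M.ker y (hDV hy.2)).2 hy.2] at h4
  exact h4.1 rfl

end nat

end Cfsg.Agent.Omega.NO3S.SOne.NS
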