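import Cfsg.Agent.Omega.NO3S.SOne.NTBase
import Cfsg.Agent.Omega.NOne.Flat.Conj
import Cfsg.Agent.Omega.NO3S.SOne.NS.Alg
import Cfsg.Agent.Omega.NO3S.SOne.NS.Fam

/-!
# GammaFF, (S1), the non-split case: the values `[v, a]` of a root group

`M : NatKM F S P V D k`, `One M A j`, `OffM V A`.

* `Vl M j c t x` : `x = [v, a]`, `v` has the second coordinate `t` at `j`, `a` acts as `up c` there; unique, bi-additive;
* `AW V A` : the set of the non-trivial `[v, a]`;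
* `Q` (`|F| = 4`) : `⁅V, A⁆ = {Q a d}`, `Q a d` has the coordinate `a`; `MM = {Q a 0}`;
* `star_AW` (`(*)`), `mem_MM`, `MM_inf`, `conj_MM`.
-/

set_option autoImplicit false
set_option linter.unusedSectionVars false
set_option linter.style.haveILetI false

namespace Cfsg.Agent.Omega.NO3S.SOne.NS

open Subgroup Cfsg Cfsg.Agent.ZN Cfsg.Agent.ZN.ChoiceBase Cfsg.Agent.Omega.MinPar
open Cfsg.Agent.Omega.FFThm (ElemM OffM NoOverM ConclM NatKM NatK ActsSL relIndex_le_iff)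
open Cfsg.Agent.Omega.NatPair (ap ap_mul ap_one ap_inv_ap ap_zero' ap_one' ext2 exists_ap)
open Cfsg.Agent.Omega.NOThreeL.NF (MinOffM)
open Cfsg.Agent.Omega.NO3S.SOne.NatD
open Cfsg.Agent.Lib.SL2Mat
open Cfsg.Agent.Omega.NoFF.Basic (mem_conj conj_le_iff)
open scoped commutatorElement Pointwise

universe u

variable {G : Type u} [Group G] {F : Type} [Field F] {S P V D : Subgroup G} {k : ℕ}

/-- `x = [v, a]`, `v` with second coordinate `t`, `a` acting as `up c` at `j` -/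
def Vl (M : NatKM F S P V D k) (j : Fin k) (c t : F) (x : G) : Prop :=
  ∃ v ∈ V, ∃ a ∈ P, M.e v j 1 = t ∧ ActsSL M.e V D a (Pi.mulSingle j (up c)) ∧ x = a * v * a⁻¹ * v⁻¹

/-- the values -/
def AW (V A : Subgroup G) : Set G := {x | x ≠ 1 ∧ ∃ v ∈ V, ∃ a ∈ A, x = a * v * a⁻¹ * v⁻¹}

theorem AW_le {V A : Subgroup G} {x : G} (hx : x ∈ AW V A) : x ∈ (⁅V, A⁆ : Subgroup G) := by
  obtain ⟨-, v, hv, a, ha, rfl⟩ := hx
  have h1 : a * v * a⁻¹ * v⁻¹ = ⁅v, a⁆⁻¹ := by rw [commutatorElement_def]; group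
  rw [h1]
  exact inv_mem (commutator_mem_commutator hv ha)

theorem comm_le_of_AW {V A R : Subgroup G} (h : ∀ x ∈ AW V A, x ∈ R) : ⁅V, A⁆ ≤ R := by
  refine commutator_le.2 fun v hv a ha => ?_
  have h1 : ⁅v, a⁆ = (a * v * a⁻¹ * v⁻¹)⁻¹ := by rw [commutatorElement_def]; group
  rw [h1]
  refine inv_mem ?_
  by_cases h2 : a * v * a⁻¹ * v⁻¹ = 1
  · rw [h2]; exact one_mem _
  · exact h _ ⟨h2, v, hv, a, ha, rfl⟩

theorem AW_conj {V A : Subgroup G} {g x : G} : g * x * g⁻¹ ∈ AW (MulAut.conj g • V) (MulAut.conj g • A) ↔ x ∈ AW V A := by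
  have key : ∀ {V A : Subgroup G} {g x : G}, x ∈ AW V A → g * x * g⁻¹ ∈ AW (MulAut.conj g • V) (MulAut.conj g • A) := by
    rintro V A g x ⟨h1, v, hv, a, ha, rfl⟩
    refine ⟨fun h2 => h1 ?_, g * v * g⁻¹, NOne.Frame.conj_mem hv, g * a * g⁻¹, NOne.Frame.conj_mem ha, by group⟩
    have h3 : a * v * a⁻¹ * v⁻¹ = g⁻¹ * (g * (a * v * a⁻¹ * v⁻¹) * g⁻¹) * g := by group
    rw [h3, h2]; group
  refine ⟨fun h => ?_, key⟩
  have h1 := key (g := g⁻¹) h
  have e1 : g⁻¹ * (g * x * g⁻¹) * g⁻¹⁻¹ = x := by group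
  rw [e1] at h1
  have e2 : ∀ B : Subgroup G, MulAut.conj g⁻¹ • MulAut.conj g • B = B := fun B => by
    rw [← mul_smul, ← map_mul, inv_mul_cancel, map_one, one_smul]
  rwa [e2, e2] at h1

section val

variable {M : NatKM F S P V D k} {A : Subgroup G} {j : Fin k} (hA : AmbD S P V D)
include hA

theorem Vl.mem {c t : F} {x : G} (h : Vl M j c t x) : x ∈ V := by
  obtain ⟨v, hv, a, ha, -, -, rfl⟩ := h
  exact mul_mem (hA.cm ha hv) (inv_mem hv)

theorem Vl.e {c t : F} {x : G} (h : Vl M j c t x) : M.e x j = ![c * t, 0] := by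
  obtain ⟨v, hv, a, ha, rfl, h1, rfl⟩ := h
  exact e_comm hA ha h1 hv

theorem Vl.e_ne {c t : F} {x : G} (h : Vl M j c t x) {l : Fin k} (hl : l ≠ j) : M.e x l = 0 := by
  obtain ⟨v, hv, a, ha, rfl, h1, rfl⟩ := h
  exact e_comm_ne hA ha h1 hv hl

theorem exists_Vl (h : One M A j) (c t : F) : ∃ x, Vl M j c t x := by
  obtain ⟨a, ha, hac⟩ := h.ex c
  obtain ⟨v, hv, hvj, -⟩ := exists_pt M j ![0, t]
  exact ⟨_, v, hv, a, hA.SP (h.le ha), by rw [hvj]; rfl, hac, rfl⟩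

variable [Finite G] [Finite F] (h : One M A j) (hoff : OffM V A)
include h hoff

/-- a root element centralises the vectors with second coordinate `0` -/
theorem fix_of_zero {a v : G} {c : F} (ha : a ∈ P) (hac : ActsSL M.e V D a (Pi.mulSingle j (up c))) (hv : v ∈ V)
    (h0 : M.e v j 1 = 0) : a * v * a⁻¹ = v := by
  obtain ⟨b, hb, hbc⟩ := h.ex c
  rw [conj_eq hA ha (hA.SP (h.le hb)) hac hbc hv]
  have h1 := mem_centralizer_iff.1 ((h.cent_iff hA hoff hv).2 h0) b hb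
  rw [h1, mul_inv_cancel_right]

theorem Vl.uniq {c t : F} {x y : G} (hx : Vl M j c t x) (hy : Vl M j c t y) : x = y := by
  obtain ⟨v, hv, a, ha, e1, e2, rfl⟩ := hx
  obtain ⟨w, hw, b, hb, f1, f2, rfl⟩ := hy
  rw [conj_eq hA ha hb e2 f2 hv]
  have hu : v * w⁻¹ ∈ V := mul_mem hv (inv_mem hw)
  have h1 : M.e (v * w⁻¹) j 1 = 0 := by
    rw [M.mul v hv w⁻¹ (inv_mem hw), e_inv hw, Pi.add_apply, Pi.add_apply, Pi.neg_apply, Pi.neg_apply, e1, f1,
      add_neg_cancel]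
  have h2 := fix_of_zero hA h hoff hb f2 hu h1
  have h3 : b * w * b⁻¹ * w⁻¹ ∈ V := mul_mem (hA.cm hb hw) (inv_mem hw)
  calc b * v * b⁻¹ * v⁻¹ = b * (v * w⁻¹) * b⁻¹ * (b * w * b⁻¹ * w⁻¹) * (v * w⁻¹)⁻¹ := by group
    _ = v * w⁻¹ * (b * w * b⁻¹ * w⁻¹) * (v * w⁻¹)⁻¹ := by rw [h2]
    _ = b * w * b⁻¹ * w⁻¹ := by rw [hA.ab _ hu _ h3, mul_inv_cancel_right]

theorem Vl.mul_left {c c' t : F} {x y : G} (hx : Vl M j c t x) (hy : Vl M j c' t y) : Vl M j (c + c') t (x * y) := by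
  obtain ⟨v, hv, a, ha, e1, e2, rfl⟩ := hx
  obtain ⟨w, hw, b, hb, f1, f2, rfl⟩ := hy
  have h1 : b * w * b⁻¹ * w⁻¹ = b * v * b⁻¹ * v⁻¹ :=
    Vl.uniq hA h hoff ⟨w, hw, b, hb, f1, f2, rfl⟩ ⟨v, hv, b, hb, e1, f2, rfl⟩
  rw [h1]
  have h2 : b * v * b⁻¹ * v⁻¹ ∈ V := mul_mem (hA.cm hb hv) (inv_mem hv)
  have h3 : M.e (b * v * b⁻¹ * v⁻¹) j 1 = 0 := by rw [e_comm hA hb f2 hv]; rfl
  have h4 := fix_of_zero hA h hoff ha e2 h2 h3
  have h5 := act_mul (M := M) hA hb e2 f2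
  rw [mulSingle_mul] at h5
  refine ⟨v, hv, a * b, mul_mem ha hb, e1, h5, ?_⟩
  have h6 : a * v * a⁻¹ * v⁻¹ ∈ V := mul_mem (hA.cm ha hv) (inv_mem hv)
  rw [hA.ab _ h6 _ h2]
  calc b * v * b⁻¹ * v⁻¹ * (a * v * a⁻¹ * v⁻¹) = a * (b * v * b⁻¹ * v⁻¹) * a⁻¹ * (a * v * a⁻¹ * v⁻¹) := by rw [h4]
    _ = a * b * v * (a * b)⁻¹ * v⁻¹ := by group

theorem Vl.mul_right {c t t' : F} {x y : G} (hx : Vl M j c t x) (hy : Vl M j c t' y) : Vl M j c (t + t') (x * y) := by
  obtain ⟨v, hv, a, ha, e1, e2, rfl⟩ := hx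
  obtain ⟨w, hw, b, hb, f1, f2, rfl⟩ := hy
  have h1 : b * w * b⁻¹ * w⁻¹ = a * w * a⁻¹ * w⁻¹ :=
    Vl.uniq hA h hoff ⟨w, hw, b, hb, f1, f2, rfl⟩ ⟨w, hw, a, ha, f1, e2, rfl⟩
  rw [h1]
  have hvw : v * w ∈ V := mul_mem hv hw
  have h2 : a * w * a⁻¹ * w⁻¹ ∈ V := mul_mem (hA.cm ha hw) (inv_mem hw)
  refine ⟨v * w, hvw, a, ha, ?_, e2, ?_⟩
  · rw [M.mul v hv w hw, Pi.add_apply, Pi.add_apply, e1, f1]
  · calc a * v * a⁻¹ * v⁻¹ * (a * w * a⁻¹ * w⁻¹) = a * v * a⁻¹ * (v⁻¹ * (a * w * a⁻¹ * w⁻¹)) := by group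
      _ = a * v * a⁻¹ * (a * w * a⁻¹ * w⁻¹ * v⁻¹) := by rw [hA.ab _ (inv_mem hv) _ h2]
      _ = a * (v * w) * a⁻¹ * (v * w)⁻¹ := by group

omit hoff in
theorem Vl_of {a v : G} (ha : a ∈ A) (hv : v ∈ V) : ∃ c, Vl M j c (M.e v j 1) (a * v * a⁻¹ * v⁻¹) := by
  obtain ⟨c, hc⟩ := h.acts a ha
  exact ⟨c, v, hv, a, hA.SP (h.le ha), rfl, hc, rfl⟩

/-- the values with non-trivial parameters are in `AW` -/
theorem Vl.mem_AW {c t : F} {x : G} (hx : Vl M j c t x) (hc : c ≠ 0) (ht : t ≠ 0) : x ∈ AW V A := by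
  have h1 : x ≠ 1 := by
    rintro rfl
    have h2 := congrFun (hx.e hA) 0
    rw [e_one] at h2
    exact mul_ne_zero hc ht h2.symm
  obtain ⟨b, hb, hbc⟩ := h.ex c
  obtain ⟨v, hv, hvj, -⟩ := exists_pt M j ![0, t]
  refine ⟨h1, v, hv, b, hb, ?_⟩
  exact Vl.uniq hA h hoff hx ⟨v, hv, b, hA.SP (h.le hb), by rw [hvj]; rfl, hbc, rfl⟩

theorem AW_Vl {x : G} (hx : x ∈ AW V A) : ∃ c t, c ≠ 0 ∧ t ≠ 0 ∧ Vl M j c t x := by
  obtain ⟨h1, v, hv, a, ha, rfl⟩ := hx
  obtain ⟨c, hc⟩ := h.acts a ha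
  have haP := hA.SP (h.le ha)
  refine ⟨c, M.e v j 1, ?_, ?_, v, hv, a, haP, rfl, hc, rfl⟩
  · rintro rfl
    apply h1
    have h2 := mem_centralizer_iff.1 (cent_of_zero (M := M) hA haP hc) v hv
    rw [← h2]; group
  · intro h0
    apply h1
    rw [fix_of_zero hA h hoff haP hc hv h0, mul_inv_cancel]

/-- the values are not in `D` -/
theorem AW_not_D {x : G} (hx : x ∈ AW V A) : x ∉ D := by
  obtain ⟨c, t, hc, ht, h1⟩ := AW_Vl hA h hoff hx
  intro hD
  have h2 := congrFun (h1.e hA) 0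
  rw [(M.ker x (hA.DV hD)).2 hD] at h2
  exact mul_ne_zero hc ht h2.symm

/-- `AW` depends only on the summand -/
theorem AW_same {A' : Subgroup G} (h' : One M A' j) (hoff' : OffM V A') : AW V A = AW V A' := by
  ext x
  constructor
  · intro hx
    obtain ⟨c, t, hc, ht, h1⟩ := AW_Vl hA h hoff hx
    exact h1.mem_AW hA h' hoff' hc ht
  · intro hx
    obtain ⟨c, t, hc, ht, h1⟩ := AW_Vl hA h' hoff' hx
    exact h1.mem_AW hA h hoff hc ht

end val

/-! ### the action of `S` -/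

section conj

variable [Finite G] [Finite F] {M : NatKM F S P V D k} {A : Subgroup G} {j : Fin k} (hA : AmbD S P V D)
  (h : One M A j) (hoff : OffM V A)
include hA h hoff

/-- conjugates of root groups -/
theorem One_conj {s : G} (hs : s ∈ S) {σ : Equiv.Perm (Fin k)} (hσ : Mvd M.toNatK s σ) :
    One M (MulAut.conj s • A) (σ j) := by
  have h1 : MinOffM V S (cj s A) := NOThreeL.NF.NatR.minOffM_cj (hA.SP.trans hA.PV) (h.min hA hoff) hs
  obtain ⟨j', hj'⟩ := One.of_min hA M h1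
  have hsP := hA.SP hs
  have hjj : σ j = j' := by
    by_contra hne
    obtain ⟨v, hv, hvi, -⟩ := exists_pt M j ![0, 1]
    obtain ⟨a, ha, hac⟩ := h.ex 1
    have haP := hA.SP (h.le ha)
    have h2 := e_comm hA haP hac hv
    have hw : a * v * a⁻¹ * v⁻¹ ∈ V := mul_mem (hA.cm haP hv) (inv_mem hv)
    have h3 : M.e (a * v * a⁻¹ * v⁻¹) j ≠ 0 := by
      rw [h2, hvi]
      intro h4
      have h5 := congrFun h4 0
      simp at h5
    have h4 : M.e (s * (a * v * a⁻¹ * v⁻¹) * s⁻¹) (σ j) ≠ 0 := fun h5 => h3 ((hσ _ hw j).1 h5)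
    obtain ⟨c, hc⟩ := hj'.acts (s * a * s⁻¹) (mem_cj.2 (by
      have e : s⁻¹ * (s * a * s⁻¹) * s = a := by group
      rw [e]; exact ha))
    have h5 := e_comm_ne hA (mul_mem (mul_mem hsP haP) (inv_mem hsP)) hc (hA.cm hsP hv) hne
    have e : s * a * s⁻¹ * (s * v * s⁻¹) * (s * a * s⁻¹)⁻¹ * (s * v * s⁻¹)⁻¹ = s * (a * v * a⁻¹ * v⁻¹) * s⁻¹ := by
      group
    rw [e] at h5
    exact h4 h5
  rw [hjj]
  exact hj'

/-- elements of `S` fixing the block fix `⁅V, A⁆` -/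
theorem conj_comm_eq {s : G} (hs : s ∈ S) {σ : Equiv.Perm (Fin k)} (hσ : Mvd M.toNatK s σ) (hj : σ j = j) :
    MulAut.conj s • ⁅V, A⁆ = ⁅V, A⁆ := by
  have h1 := One_conj hA h hoff hs hσ
  rw [hj] at h1
  have h2 : MulAut.conj s • ⁅V, A⁆ = ⁅MulAut.conj s • V, MulAut.conj s • A⁆ :=
    Subgroup.map_commutator V A (MulAut.conj s).toMonoidHom
  rw [h2, NOne.Flat.conj_eq_of_norm (hA.PV (hA.SP hs))]
  exact h1.comm_same hA h


end conj

/-! ### `|F| = 4` -/

section four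

/-- `V`, written additively -/
@[reducible] def adV (hA : AmbD S P V D) : AddCommGroup (Additive V) :=
  @Additive.addCommGroup V { (inferInstance : Group V) with mul_comm := fun x y => Subtype.ext (hA.ab _ x.2 _ y.2) }

variable {M : NatKM F S P V D k} {A : Subgroup G} {j : Fin k} (hA : AmbD S P V D) (h : One M A j)

/-- the value with parameters `c`, `t` -/
noncomputable def bet (c t : F) : Additive V :=
  Additive.ofMul ⟨(exists_Vl hA h c t).choose, (exists_Vl hA h c t).choose_spec.mem hA⟩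

theorem bet_Vl (c t : F) : Vl M j c t ((Additive.toMul (bet hA h c t) : V) : G) := (exists_Vl hA h c t).choose_spec

variable [Fintype F] [CharP F 2]

/-- `Q a d = ∏ c, [v_(a c² + d² c), a_c]` -/
noncomputable def Q (a d : F) : G :=
  letI := adV hA
  ((Additive.toMul (PP (bet hA h) a d) : V) : G)

variable [Finite G] (hoff : OffM V A)

include hoff in
theorem bet_bi : letI := adV hA; Bi (bet hA h) := by
  letI := adV hA
  refine ⟨fun c c' t => ?_, fun c t t' => ?_⟩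
  · refine Additive.toMul.injective (Subtype.ext ?_)
    exact Vl.uniq hA h hoff (bet_Vl hA h _ _) ((bet_Vl hA h c t).mul_left hA h hoff (bet_Vl hA h c' t))
  · refine Additive.toMul.injective (Subtype.ext ?_)
    exact Vl.uniq hA h hoff (bet_Vl hA h _ _) ((bet_Vl hA h c t).mul_right hA h hoff (bet_Vl hA h c t'))

theorem Q_mem (a d : F) : Q hA h a d ∈ V := Subtype.property _

include hoff in
theorem Q_add (a a' d d' : F) : Q hA h (a + a') (d + d') = Q hA h a d * Q hA h a' d' := by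
  letI := adV hA
  have h1 := PP_add (bet_bi hA h hoff) a a' d d'
  exact congrArg (fun x : Additive V => ((Additive.toMul x : V) : G)) h1

include hoff in
theorem Q_zero : Q hA h 0 0 = 1 := by
  letI := adV hA
  have h1 := PP_zero (bet_bi hA h hoff)
  exact congrArg (fun x : Additive V => ((Additive.toMul x : V) : G)) h1

include hoff in
theorem Q_eq (h4 : Fintype.card F = 4) {c t : F} {x : G} (hx : Vl M j c t x) : Q hA h (c * t) (c * t ^ 2) = x := by
  letI := adV hA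
  have h1 := PP_eq (bet_bi hA h hoff) h4 c t
  have h2 := congrArg (fun x : Additive V => ((Additive.toMul x : V) : G)) h1
  exact h2.trans (Vl.uniq hA h hoff (bet_Vl hA h c t) hx)

/-- the first coordinate at `j`, as a homomorphism -/
noncomputable def eh (M : NatKM F S P V D k) (j : Fin k) (hA : AmbD S P V D) :
    letI := adV hA
    Additive V →+ F :=
  letI := adV hA
  { toFun := fun x => M.e ((Additive.toMul x : V) : G) j 0
    map_zero' := by
      change M.e (1 : G) j 0 = 0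
      rw [e_one]; rfl
    map_add' := by
      intro x y
      change M.e (((Additive.toMul x : V) : G) * ((Additive.toMul y : V) : G)) j 0 = _
      rw [M.mul _ (Subtype.property _) _ (Subtype.property _)]
      rfl }

theorem eh_bet (c t : F) : letI := adV hA; eh M j hA (bet hA h c t) = c * t := by
  letI := adV hA
  exact congrFun ((bet_Vl hA h c t).e hA) 0

include hoff in
theorem Q_e0 (h4 : Fintype.card F = 4) (a d : F) : M.e (Q hA h a d) j 0 = a := by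
  letI := adV hA
  exact e_PP (bet_bi hA h hoff) h4 (e := eh M j hA) (eh_bet hA h) a d

include hoff in
theorem Q_comm (a d : F) : Q hA h a d ∈ (⁅V, A⁆ : Subgroup G) := by
  letI := adV hA
  refine Finset.sum_induction (s := Finset.univ) (fun c : F => bet hA h c (a * c ^ 2 + d ^ 2 * c))
    (fun x : Additive V => ((Additive.toMul x : V) : G) ∈ (⁅V, A⁆ : Subgroup G)) (fun x y hx hy => ?_) (one_mem _)
    (fun c _ => ?_)
  · exact mul_mem hx hy
  · by_cases h0 : ((Additive.toMul (bet hA h c (a * c ^ 2 + d ^ 2 * c)) : V) : G) = 1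
    · rw [h0]; exact one_mem _
    · have h1 := bet_Vl hA h c (a * c ^ 2 + d ^ 2 * c)
      obtain ⟨b, hb, hbc⟩ := h.ex c
      obtain ⟨v, hv, hvj, -⟩ := exists_pt M j ![0, a * c ^ 2 + d ^ 2 * c]
      have h2 := Vl.uniq hA h hoff h1 ⟨v, hv, b, hA.SP (h.le hb), by rw [hvj]; rfl, hbc, rfl⟩
      exact AW_le ⟨h0, v, hv, b, hb, h2⟩

include hoff in
theorem Q_surj (h4 : Fintype.card F = 4) {x : G} (hx : x ∈ (⁅V, A⁆ : Subgroup G)) : ∃ a d, x = Q hA h a d := by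
  have hsq : ∀ a d, (Q hA h a d)⁻¹ = Q hA h a d := fun a d => by
    rw [inv_eq_iff_mul_eq_one]
    exact hA.sq _ (Q_mem hA h a d)
  let R : Subgroup G :=
    { carrier := {x | ∃ a d, x = Q hA h a d}
      mul_mem' := by
        rintro _ _ ⟨a, d, rfl⟩ ⟨a', d', rfl⟩
        exact ⟨a + a', d + d', (Q_add hA h hoff a a' d d').symm⟩
      one_mem' := ⟨0, 0, (Q_zero hA h hoff).symm⟩
      inv_mem' := by
        rintro _ ⟨a, d, rfl⟩
        exact ⟨a, d, hsq a d⟩ }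
  have h1 : ⁅V, A⁆ ≤ R := comm_le_of_AW fun x hx => by
    obtain ⟨c, t, -, -, h2⟩ := AW_Vl hA h hoff hx
    exact ⟨c * t, c * t ^ 2, (Q_eq hA h hoff h4 h2).symm⟩
  exact h1 hx

/-- `{Q a 0}` -/
noncomputable def MM : Subgroup G where
  carrier := {x | ∃ a, x = Q hA h a 0}
  mul_mem' := by
    rintro _ _ ⟨a, rfl⟩ ⟨a', rfl⟩
    exact ⟨a + a', by rw [← Q_add hA h hoff, add_zero]⟩
  one_mem' := ⟨0, (Q_zero hA h hoff).symm⟩
  inv_mem' := by
    rintro _ ⟨a, rfl⟩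
    refine ⟨a, ?_⟩
    rw [inv_eq_iff_mul_eq_one]
    exact hA.sq _ (Q_mem hA h a 0)

include hA h hoff in
theorem mem_D_iff {x : G} (hx : x ∈ (⁅V, A⁆ : Subgroup G)) : x ∈ D ↔ M.e x j 0 = 0 := by
  obtain ⟨h1, h2, h3⟩ := comm_e hA h hx
  rw [← M.ker x h1]
  constructor
  · intro h4; rw [h4]; rfl
  · intro h4
    funext l
    by_cases hl : l = j
    · subst hl; exact ext2 h4 h2
    · exact h3 l hl

include hoff in
theorem MM_inf (h4 : Fintype.card F = 4) : MM hA h hoff ⊓ D = ⊥ := by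
  refine eq_bot_iff.2 ?_
  rintro x ⟨⟨a, rfl⟩, hD⟩
  have h1 := (mem_D_iff hA h hoff (Q_comm hA h hoff a 0)).1 hD
  rw [Q_e0 hA h hoff h4] at h1
  rw [h1, Q_zero hA h hoff]
  exact one_mem _

theorem MM_le : MM hA h hoff ≤ ⁅V, A⁆ := by
  rintro _ ⟨a, rfl⟩
  exact Q_comm hA h hoff a 0

theorem MM_ne (h4 : Fintype.card F = 4) : MM hA h hoff ≠ ⊥ := by
  intro h0
  have h1 : Q hA h 1 0 ∈ MM hA h hoff := ⟨1, rfl⟩
  rw [h0, mem_bot] at h1
  have h2 := Q_e0 hA h hoff h4 1 0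
  rw [h1, e_one] at h2
  exact zero_ne_one h2

include hoff in
theorem Q_mem_AW (h4 : Fintype.card F = 4) {a d : F} (ha : a ≠ 0) (hd : d ≠ 0) : Q hA h a d ∈ AW V A := by
  obtain ⟨x, hx⟩ := exists_Vl hA h (a ^ 2 / d) (d / a)
  have h1 := Q_eq hA h hoff h4 hx
  have e1 : a ^ 2 / d * (d / a) = a := by field_simp
  have e2 : a ^ 2 / d * (d / a) ^ 2 = d := by field_simp
  rw [e1, e2] at h1
  rw [h1]
  exact hx.mem_AW hA h hoff (div_ne_zero (pow_ne_zero _ ha) hd) (div_ne_zero hd ha)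

/-- **(M2)** -/
theorem mem_MM (h4 : Fintype.card F = 4) {y : G} (hy : y ∈ (⁅V, A⁆ : Subgroup G)) (hyD : y ∉ D)
    (hyA : y ∉ AW V A) : y ∈ MM hA h hoff := by
  obtain ⟨a, d, rfl⟩ := Q_surj hA h hoff h4 hy
  rw [mem_D_iff hA h hoff hy, Q_e0 hA h hoff h4] at hyD
  by_cases hd : d = 0
  · subst hd; exact ⟨a, rfl⟩
  · exact absurd (Q_mem_AW hA h hoff h4 hyD hd) hyA

include hA h hoff in
/-- **`(*)`** -/
theorem star_AW (h4 : Fintype.card F = 4) {x y : G} (hx : x ∈ (⁅V, A⁆ : Subgroup G)) (hxD : x ∈ D) (hx1 : x ≠ 1)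
    (hy : y ∈ (⁅V, A⁆ : Subgroup G)) (hyD : y ∉ D) : y ∈ AW V A ∨ x * y ∈ AW V A := by
  obtain ⟨a', d', rfl⟩ := Q_surj hA h hoff h4 hx
  obtain ⟨a, d, rfl⟩ := Q_surj hA h hoff h4 hy
  rw [mem_D_iff hA h hoff hy, Q_e0 hA h hoff h4] at hyD
  rw [mem_D_iff hA h hoff hx, Q_e0 hA h hoff h4] at hxD
  subst hxD
  by_cases hd : d = 0
  · right
    subst hd
    have hd' : d' ≠ 0 := by
      rintro rfl
      exact hx1 (Q_zero hA h hoff)
    rw [← Q_add hA h hoff, zero_add, add_zero]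
    exact Q_mem_AW hA h hoff h4 hyD hd'
  · exact Or.inl (Q_mem_AW hA h hoff h4 hyD hd)

/-- **`MM` is natural** -/
theorem conj_MM (h4 : Fintype.card F = 4) {s : G} (hs : s ∈ S) {σ : Equiv.Perm (Fin k)} (hσ : Mvd M.toNatK s σ)
    (hj : σ j = j) : MulAut.conj s • MM hA h hoff = MM hA h hoff := by
  letI := adV hA
  have hsP := hA.SP hs
  have h1 := One_conj hA h hoff hs hσ
  rw [hj] at h1
  -- `C`
  have hC : ∀ c : F, ∃ a ∈ A, ActsSL M.e V D a (Pi.mulSingle j (up c)) ∧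
      ∃ c', ActsSL M.e V D (s * a * s⁻¹) (Pi.mulSingle j (up c')) := by
    intro c
    obtain ⟨a, ha, hac⟩ := h.ex c
    exact ⟨a, ha, hac, h1.acts _ (NOne.Frame.conj_mem ha)⟩
  choose a ha hac C hC using hC
  choose v hv hvj hvl using fun t : F => exists_pt M j ![0, t]
  choose w hw hwj hwl using fun y : F => exists_pt M j ![y, 0]
  have haP : ∀ c, a c ∈ P := fun c => hA.SP (h.le (ha c))
  have hsa : ∀ c, s * a c * s⁻¹ ∈ P := fun c => mul_mem (mul_mem hsP (haP c)) (inv_mem hsP)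
  have hcs : ∀ g : G, g ∈ centralizer (V : Set G) → s * g * s⁻¹ ∈ centralizer (V : Set G) := by
    intro g hg
    rw [mem_centralizer_iff]
    intro v hv
    have h2 := mem_centralizer_iff.1 hg _ (hA.cm (inv_mem hsP) hv)
    calc v * (s * g * s⁻¹) = s * (s⁻¹ * v * s⁻¹⁻¹ * g) * s⁻¹ := by group
      _ = s * (g * (s⁻¹ * v * s⁻¹⁻¹)) * s⁻¹ := by rw [h2]
      _ = s * g * s⁻¹ * v := by group
  have hcs' : ∀ g : G, s * g * s⁻¹ ∈ centralizer (V : Set G) → g ∈ centralizer (V : Set G) := by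
    intro g hg
    rw [mem_centralizer_iff]
    intro v hv
    have h2 := mem_centralizer_iff.1 hg _ (hA.cm hsP hv)
    calc v * g = s⁻¹ * (s * v * s⁻¹ * (s * g * s⁻¹)) * s := by group
      _ = s⁻¹ * (s * g * s⁻¹ * (s * v * s⁻¹)) * s := by rw [h2]
      _ = g * v := by group
  let T : F → F := fun t => M.e (s * v t * s⁻¹) j 1
  let g : F → F := fun y => M.e (s * w y * s⁻¹) j 0
  let φ : Additive V →+ Additive V :=
    { toFun := fun x => Additive.ofMul ⟨s * ((Additive.toMul x : V) : G) * s⁻¹, hA.cm hsP (Subtype.property _)⟩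
      map_zero' := by
        refine Additive.toMul.injective (Subtype.ext ?_)
        change s * 1 * s⁻¹ = 1
        rw [mul_one, mul_inv_cancel]
      map_add' := by
        intro x y
        refine Additive.toMul.injective (Subtype.ext ?_)
        change s * (((Additive.toMul x : V) : G) * ((Additive.toMul y : V) : G)) * s⁻¹ =
          s * ((Additive.toMul x : V) : G) * s⁻¹ * (s * ((Additive.toMul y : V) : G) * s⁻¹)
        group }
  have hval : ∀ c t, Vl M j (C c) (T t) (s * ((Additive.toMul (bet hA h c t) : V) : G) * s⁻¹) := by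
    intro c t
    have h2 : ((Additive.toMul (bet hA h c t) : V) : G) = a c * v t * (a c)⁻¹ * (v t)⁻¹ :=
      Vl.uniq hA h hoff (bet_Vl hA h c t) ⟨v t, hv t, a c, haP c, by rw [hvj]; rfl, hac c, rfl⟩
    refine ⟨s * v t * s⁻¹, hA.cm hsP (hv t), s * a c * s⁻¹, hsa c, rfl, hC c, ?_⟩
    rw [h2]
    group
  have hφ : ∀ c t, φ (bet hA h c t) = bet hA h (C c) (T t) := by
    intro c t
    refine Additive.toMul.injective (Subtype.ext ?_)
    exact Vl.uniq hA h hoff (hval c t) (bet_Vl hA h _ _)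
  have hCinj : Function.Injective C := by
    intro c c' hcc
    have h2 := hC c
    rw [hcc] at h2
    have h3 := cent_of_same (M := M) hA (hsa c) (hsa c') h2 (hC c')
    have e1 : (s * a c' * s⁻¹)⁻¹ * (s * a c * s⁻¹) = s * ((a c')⁻¹ * a c) * s⁻¹ := by group
    rw [e1] at h3
    have h4 := act_cent (M := M) hA.DV (hcs' _ h3)
    have h5 := act_mul (M := M) hA (mul_mem (inv_mem (haP c')) (haP c)) (hac c') h4
    rw [mul_one, mul_inv_cancel_left] at h5
    exact param_unique hA (hac c) h5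
  have hC0 : C 0 = 0 := by
    have h2 := act_cent (M := M) hA.DV (hcs _ (cent_of_zero (M := M) hA (haP 0) (hac 0)))
    rw [← mulSingle_zero (i := j)] at h2
    exact param_unique hA (hC 0) h2
  have hg : ∀ c t, C c * T t = g (c * t) := by
    intro c t
    have h2 := congrFun ((hval c t).e hA) 0
    change M.e _ j 0 = C c * T t at h2
    rw [← h2]
    have h3 : M.e ((Additive.toMul (bet hA h c t) : V) : G) = M.e (w (c * t)) := by
      funext l
      by_cases hl : l = j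
      · subst hl; rw [(bet_Vl hA h c t).e hA, hwj]
      · rw [(bet_Vl hA h c t).e_ne hA hl, hwl _ _ hl]
    rw [e_eq_iff (Subtype.property _) (hw _)] at h3
    have h4 := hA.cmD hsP h3
    have h5 : M.e (s * ((Additive.toMul (bet hA h c t) : V) : G) * s⁻¹) = M.e (s * w (c * t) * s⁻¹) := by
      rw [e_eq_iff (hA.cm hsP (Subtype.property _)) (hA.cm hsP (hw _))]
      have e1 : s * ((Additive.toMul (bet hA h c t) : V) : G) * s⁻¹ * (s * w (c * t) * s⁻¹)⁻¹ =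
        s * (((Additive.toMul (bet hA h c t) : V) : G) * (w (c * t))⁻¹) * s⁻¹ := by group
      rw [e1]
      exact h4
    rw [h5]
  have hbij : Function.Bijective C := Finite.injective_iff_bijective.1 hCinj
  have key : ∀ x ∈ MM hA h hoff, s * x * s⁻¹ ∈ MM hA h hoff := by
    rintro _ ⟨y, rfl⟩
    refine ⟨g y, ?_⟩
    have h2 := PP_map h4 h4 (bet_bi hA h hoff) φ hbij hC0 hφ hg y
    exact congrArg (fun x : Additive V => ((Additive.toMul x : V) : G)) h2
  refine Subgroup.eq_of_le_of_card_ge ?_ (NOne.Choice.card_conj s (MM hA h hoff)).ge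
  intro x hx
  rw [mem_conj] at hx
  have h2 := key _ hx
  have e1 : s * (s⁻¹ * x * s) * s⁻¹ = x := by group
  rwa [e1] at h2

end four

/-! ### the families -/

section fam

variable {M : NatKM F S P V D k} {A : Subgroup G} {j : Fin k} (hA : AmbD S P V D) (h : One M A j)
  [Finite G] (hoff : OffM V A)

/-- **(E1)** `R₁ ∩ D ≤ ⨆ s, (⁅V, A⁆ ∩ D)^s` -/
theorem RR_inf [Finite F] (hA : AmbD S P V D) (h : One M A j) (hoff : OffM V A) :
    (⨆ s : S, MulAut.conj (s : G) • ⁅V, A⁆) ⊓ D ≤ ⨆ s : S, MulAut.conj (s : G) • (⁅V, A⁆ ⊓ D) := by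
  refine iSup_inf_le (M := M.toNatK) (j := j) hA.SP hA.PV hA.ab hA.DV (fun y hy => (comm_e hA h hy).1)
    (fun y hy i hi => (comm_e hA h hy).2.2 i hi) fun s hs σ hσ hj => ?_
  exact conj_comm_eq hA h hoff hs hσ hj

variable [Fintype F] [CharP F 2]

/-- `U' = ⨆ s, MM^s` -/
noncomputable def UU : Subgroup G := ⨆ s : S, MulAut.conj (s : G) • MM hA h hoff

/-- **(E2)** `U' ∩ D = 1` -/
theorem UU_inf (h4 : Fintype.card F = 4) : UU hA h hoff ⊓ D = ⊥ := by
  refine eq_bot_iff.2 ((iSup_inf_le (M := M.toNatK) (j := j) hA.SP hA.PV hA.ab hA.DV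
    (fun y hy => (comm_e hA h (MM_le hA h hoff hy)).1)
    (fun y hy i hi => (comm_e hA h (MM_le hA h hoff hy)).2.2 i hi) fun s hs σ hσ hj =>
      conj_MM hA h hoff h4 hs hσ hj).trans (iSup_le fun _ => ?_))
  rw [MM_inf hA h hoff h4, Subgroup.smul_bot]

theorem UU_le : UU hA h hoff ≤ ⨆ s : S, MulAut.conj (s : G) • ⁅V, A⁆ :=
  iSup_mono fun _ => conj_le_iff.2 (MM_le hA h hoff)

theorem MM_le_UU : MM hA h hoff ≤ UU hA h hoff := by
  refine le_trans ?_ (le_iSup (fun s : S => MulAut.conj (s : G) • MM hA h hoff) ⟨1, one_mem _⟩)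
  rw [Subgroup.coe_mk, map_one, one_smul]

theorem UU_ne (h4 : Fintype.card F = 4) : UU hA h hoff ≠ ⊥ := fun h0 =>
  MM_ne hA h hoff h4 (eq_bot_iff.2 ((MM_le_UU hA h hoff).trans h0.le))

end fam

/-- `⨆ s ∈ S, Y^s` is normalised by `S`. -/
theorem conj_fam {S Y : Subgroup G} {t : G} (ht : t ∈ S) :
    MulAut.conj t • (⨆ s : S, MulAut.conj (s : G) • Y) = ⨆ s : S, MulAut.conj (s : G) • Y := by
  have key : ∀ t ∈ S, MulAut.conj t • (⨆ s : S, MulAut.conj (s : G) • Y) ≤ ⨆ s : S, MulAut.conj (s : G) • Y := by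
    intro t ht
    rw [← conj_le_iff (g := t⁻¹), ← mul_smul, ← map_mul, inv_mul_cancel, map_one, one_smul]
    refine iSup_le fun s => ?_
    rw [← conj_le_iff (g := t), ← mul_smul, ← mul_smul, ← map_mul, ← map_mul]
    rw [mul_inv_cancel, map_one, one_smul]
    exact le_iSup (fun s : S => MulAut.conj (s : G) • Y) ⟨t * s, mul_mem ht s.2⟩
  refine le_antisymm (key t ht) ?_
  have h1 := (conj_le_iff (g := t)).2 (key t⁻¹ (inv_mem ht))
  rwa [← mul_smul, ← map_mul, mul_inv_cancel, map_one, one_smul] at h1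

end Cfsg.Agent.Omega.NO3S.SOne.NS
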