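import Cfsg.Agent.Omega.NO3S.SOne.TransRR
import Cfsg.Agent.Omega.NO3S.SOne.NS.Val

/-!
# GammaFF, (S1), the non-split case: the frame and case (i)

* `one_of_index` : an offender of index `≤ |F|` is a root group; `card_le` : `|F| ≤ |V : C_V(A)|`;
* `NSC` : the frame of the case `|I : F| = 4`, `|V : E| = 2`, `P₁` natural over the field of order 4;
* `SO.nsc` : the frame from `SO`, `2 < |K|`;
* `NSC.val` : `[x, s] ∈ AW L₁ W` for `x ∈ I`, `s ∈ W`;
* `NSC.case_i` : `W` moves `L₁^h` (`h ∈ N_P(S)`): `(h s) AW (h s)⁻¹ = AW` for some `s ∈ S`; `NSC.case_i'`.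
-/

set_option autoImplicit false
set_option linter.unusedSectionVars false
set_option linter.style.haveILetI false

namespace Cfsg.Agent.Omega.NO3S.SOne.NS

open Subgroup Cfsg Cfsg.Agent.ZN Cfsg.Agent.Omega.MinPar
open Cfsg.Agent.Omega.NOne.Flat (EE NN conj_eq_of_norm conj_centralizer)
open Cfsg.Agent.Omega.NOne.NearFF (c c_def)
open Cfsg.Agent.Omega.NoFF.Basic (conj_conj mem_conj conj_le_iff conj_le_centralizer comm_symm)
open Cfsg.Agent.Omega.NOThreeL.Low.Key (BH)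
open Cfsg.Agent.Omega.FFThm (ElemM OffM NoOverM ConclM NatKM NatK ActsSL relIndex_le_iff)
open Cfsg.Agent.Omega.FrameFF (cv)
open Cfsg.Agent.Omega.NOThreeL.NF (MinOffM)
open Cfsg.Agent.Omega.NO3S.SOne.NatD
open Cfsg.Agent.Lib.SL2Mat
open scoped commutatorElement Pointwise

universe u

variable {G : Type u} [Group G]

theorem rne [Finite G] {H K : Subgroup G} : H.relIndex K ≠ 0 := index_ne_zero_of_finite

section index

variable [Finite G] {F : Type} [Field F] [Finite F] {S P V D : Subgroup G} {k : ℕ} {M : NatKM F S P V D k}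
  {A : Subgroup G} (hA : AmbD S P V D)
include hA

/-- `C_V(A)` is small on every summand of an offender -/
theorem cent_le_hy {I : Set (Fin k)} (h2 : ∀ b : Fin k → F, (∀ i, i ∉ I → b i = 0) →
    ∃ a ∈ A, ActsSL M.e V D a fun i => up (b i)) {i : Fin k} (hi : i ∈ I) :
    V ⊓ centralizer (A : Set G) ≤ hy M i := by
  classical
  rintro v ⟨hv, hc⟩
  obtain ⟨a, ha, hac⟩ := h2 (Pi.single i 1) (fun l hl => by
    have : l ≠ i := fun h3 => hl (by rw [h3]; exact hi)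
    rw [Pi.single_apply, if_neg this])
  rw [single_up] at hac
  refine ⟨hv, ?_⟩
  have h1 : a * v * a⁻¹ = v := by
    rw [mem_centralizer_iff.1 hc a ha]; group
  have h2 := e_at hac hv
  rw [h1] at h2
  have h3 := congrFun h2 0
  simp only [Matrix.cons_val_zero, one_mul] at h3
  exact left_eq_add.1 h3

/-- `|F| ≤ |V : C_V(A)|` for an offender -/
theorem card_le (M : NatKM F S P V D k) (hAS : A ≤ S) (hoff : OffM V A) :
    Nat.card F ≤ (centralizer (A : Set G)).relIndex V := by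
  obtain ⟨I, h1, h2⟩ := M.offM A hAS hoff
  obtain ⟨i, hi⟩ := nonempty_of_off (M := M) hA hAS hoff h1
  rw [← hy_relIndex M i, ← inf_relIndex_left V (centralizer (A : Set G))]
  exact relIndex_le_of_le_left (cent_le_hy hA h2 hi) rne

/-- an offender of index `≤ |F|` is a root group -/
theorem one_of_index (M : NatKM F S P V D k) (hAS : A ≤ S) (hoff : OffM V A)
    (hle : (centralizer (A : Set G)).relIndex V ≤ Nat.card F) : ∃ i, One M A i := by
  classical
  obtain ⟨I, h1, h2⟩ := M.offM A hAS hoff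
  obtain ⟨i, hi⟩ := nonempty_of_off (M := M) hA hAS hoff h1
  have heq : V ⊓ centralizer (A : Set G) = hy M i := by
    have e1 := NOThreeL.Star.rel_mul_card V (centralizer (A : Set G))
    have e2 := NOThreeL.Star.rel_mul_card V (hy M i)
    rw [inf_eq_right.2 (show hy M i ≤ V from fun v hv => hv.1), hy_relIndex] at e2
    refine Subgroup.eq_of_le_of_card_ge (cent_le_hy hA h2 hi) ?_
    have hF : 0 < Nat.card F := Nat.card_pos
    refine Nat.le_of_mul_le_mul_left (?_ : Nat.card F * _ ≤ Nat.card F * _) hF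
    rw [e2, ← e1]
    exact Nat.mul_le_mul_right _ hle
  refine ⟨i, One.of_single hA hAS hi (fun j hj => ?_) h1 h2⟩
  by_contra hne
  obtain ⟨v, hv, hvj, hvl⟩ := exists_pt M j ![0, 1]
  have h3 : v ∈ V ⊓ centralizer (A : Set G) := by
    rw [heq]
    exact ⟨hv, by rw [hvl i (Ne.symm hne)]; rfl⟩
  have h4 := (cent_le_hy hA h2 hj h3).2
  rw [hvj] at h4
  exact one_ne_zero (α := F) h4

end index

/-- **The frame of the non-split case.** -/
structure NSC [Finite G] (S : Sylow 2 G) (V F B P P₁ : Subgroup G) {K : Type} [Field K] {k : ℕ}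
    (M : NatKM K (S : Subgroup G) P₁ (zl (S : Subgroup G) P₁) (cv (S : Subgroup G) P₁) k) (j : Fin k) : Prop where
  so : SO S V F B P P₁
  one : One M (NOne.Flat.WW V F) j
  card : Nat.card K = 4
  hI : ∀ y ∈ V ⊓ B, ∃ l ∈ zl (S : Subgroup G) P₁, ∃ f ∈ F, y = l * f
  idx : F.relIndex (V ⊓ B) = 4
  lt : (EE V F).relIndex V < 4
  no : NoOverM (zl (S : Subgroup G) P₁) P₁

variable [Finite G] {S : Sylow 2 G} {V F B P P₁ : Subgroup G}

/-- `W` offends on `L₁` -/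
theorem off_W (so : SO S V F B P P₁) : OffM (zl (S : Subgroup G) P₁) (NOne.Flat.WW V F) :=
  offM_of_le so.toHyp (so.L_le_I.trans so.toBH.I_le_E) so.mov

/-- `|L : C_L(W)| ≤ |I : F|` for `L ≤ I` -/
theorem index_le (_so : SO S V F B P P₁) {L : Subgroup G} (hL : L ≤ V ⊓ B) :
    (centralizer (NOne.Flat.WW V F : Set G)).relIndex L ≤ F.relIndex (V ⊓ B) :=
  (relIndex_le_of_le_left (fun _ hx => cent_of_F hx) rne).trans
    (relIndex_le_of_le_right hL rne)

/-- **the frame exists** -/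
theorem exists_nsc (so : SO S V F B P P₁) {K : Type} [Field K] [Finite K] [CharP K 2] {k : ℕ}
    (M : NatKM K (S : Subgroup G) P₁ (zl (S : Subgroup G) P₁) (cv (S : Subgroup G) P₁) k) (hK : 2 < Nat.card K)
    (h4 : F.relIndex (V ⊓ B) = 4) (h2 : (EE V F).relIndex V < 4) (no : NoOverM (zl (S : Subgroup G) P₁) P₁) :
    ∃ j, NSC S V F B P P₁ M j := by
  have hA := AmbD.of so.hc so.hP₁ M
  have hoff := off_W so
  have h5 := index_le so so.L_le_I
  have h6 := card_le hA M so.WS hoff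
  have hK4 : Nat.card K = 4 := by
    haveI := Fintype.ofFinite K
    obtain ⟨n, -, hn⟩ := FiniteField.card K 2
    rw [← Nat.card_eq_fintype_card] at hn
    have h7 : Nat.card K ≤ 4 := by rw [← h4]; exact h6.trans h5
    have h8 : (n : ℕ) = 2 := by
      have h9 : (n : ℕ) ≤ 2 := by
        by_contra h10
        have h11 : 2 ^ 3 ≤ 2 ^ (n : ℕ) := Nat.pow_le_pow_right (by norm_num) (by omega)
        omega
      rcases Nat.lt_or_ge (n : ℕ) 2 with h10 | h10
      · exfalso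
        have h11 : 2 ^ (n : ℕ) ≤ 2 ^ 1 := Nat.pow_le_pow_right (by norm_num) (by omega)
        omega
      · omega
    rw [hn, h8]
    norm_num
  have h7 : (centralizer (NOne.Flat.WW V F : Set G)).relIndex (zl (S : Subgroup G) P₁) ≤ Nat.card K := by
    rw [hK4, ← h4]; exact h5
  obtain ⟨j, hj⟩ := one_of_index hA M so.WS hoff h7
  refine ⟨j, so, hj, hK4, ?_, h4, h2, no⟩
  -- `I = L₁ F`
  have h8 : (centralizer (NOne.Flat.WW V F : Set G)).relIndex (zl (S : Subgroup G) P₁) = 4 := by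
    rw [hj.relIndex' hA hoff, hK4]
  have hFI : F ≤ V ⊓ B := so.toBH.F_le_I
  have hle : F ⊔ zl (S : Subgroup G) P₁ ≤ V ⊓ B := sup_le hFI so.L_le_I
  have h9 : 4 ≤ F.relIndex (F ⊔ zl (S : Subgroup G) P₁) := by
    rw [← h8]
    exact (relIndex_le_of_le_left (fun _ hx => cent_of_F hx) rne).trans
      (relIndex_le_of_le_right le_sup_right rne)
  have h10 := relIndex_mul_relIndex F (F ⊔ zl (S : Subgroup G) P₁) (V ⊓ B) le_sup_left hle
  rw [h4] at h10
  have h11 : (F ⊔ zl (S : Subgroup G) P₁).relIndex (V ⊓ B) = 1 := by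
    have h12 : (F ⊔ zl (S : Subgroup G) P₁).relIndex (V ⊓ B) ≠ 0 := rne
    by_contra h13
    have h14 : 2 ≤ (F ⊔ zl (S : Subgroup G) P₁).relIndex (V ⊓ B) := by omega
    have h15 := Nat.mul_le_mul h9 h14
    omega
  intro y hy
  have h12 := relIndex_eq_one.1 h11 hy
  obtain ⟨f, hf, l, hl, rfl⟩ := sup_mul (V := V) (fun v hv w hw => so.V_comm hv hw) so.F_le_V so.L_le_V h12
  exact ⟨l, hl, f, hf, so.V_comm (so.F_le_V hf) (so.L_le_V hl)⟩

namespace NSC

variable {K : Type} [Field K] [Finite K] {k : ℕ}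
  {M : NatKM K (S : Subgroup G) P₁ (zl (S : Subgroup G) P₁) (cv (S : Subgroup G) P₁) k} {j : Fin k}
  (h : NSC S V F B P P₁ M j)
include h

theorem amb : AmbD (S : Subgroup G) P₁ (zl (S : Subgroup G) P₁) (cv (S : Subgroup G) P₁) := AmbD.of h.so.hc h.so.hP₁ M

/-- `[x, s]`, `x ∈ I`, `s ∈ W`, is a value of `W` on `L₁` -/
theorem val_of {x s : G} (hx : x ∈ V ⊓ B) (hs : s ∈ NOne.Flat.WW V F) (h1 : s * x * s⁻¹ * x⁻¹ ≠ 1) :
    s * x * s⁻¹ * x⁻¹ ∈ AW (zl (S : Subgroup G) P₁) (NOne.Flat.WW V F) := by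
  obtain ⟨l, hl, f, hf, rfl⟩ := h.hI x hx
  have hsf : s * f * s⁻¹ = f := by
    rw [mem_centralizer_iff.1 (cent_of_F hf) s hs, mul_inv_cancel_right]
  have e : s * (l * f) * s⁻¹ * (l * f)⁻¹ = s * l * s⁻¹ * l⁻¹ := by
    calc s * (l * f) * s⁻¹ * (l * f)⁻¹ = s * l * s⁻¹ * (s * f * s⁻¹) * f⁻¹ * l⁻¹ := by group
      _ = s * l * s⁻¹ * l⁻¹ := by rw [hsf, mul_inv_cancel_right]
  rw [e] at h1 ⊢
  exact ⟨h1, l, hl, s, hs, rfl⟩

/-- `[x, s] ∈ ⁅L₁, W⁆` -/
theorem c_mem {x s : G} (hx : x ∈ V ⊓ B) (hs : s ∈ NOne.Flat.WW V F) :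
    c x s ∈ (⁅zl (S : Subgroup G) P₁, NOne.Flat.WW V F⁆ : Subgroup G) := by
  have e : c x s = (s * x * s⁻¹ * x⁻¹)⁻¹ := by rw [c_def]; group
  rw [e]
  refine inv_mem ?_
  by_cases h1 : s * x * s⁻¹ * x⁻¹ = 1
  · rw [h1]; exact one_mem _
  · exact AW_le (h.val_of hx hs h1)

/-- **case (i)** -/
theorem case_i {g : G} (hg : g ∈ P) (hN : g ∈ normalizer ((S : Subgroup G) : Set G))
    (hm : ¬ NOne.Flat.WW V F ≤ centralizer ((MulAut.conj g • zl (S : Subgroup G) P₁ : Subgroup G) : Set G)) :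
    ∃ s ∈ (S : Subgroup G), ∀ x, g * s * x * (g * s)⁻¹ ∈ AW (zl (S : Subgroup G) P₁) (NOne.Flat.WW V F) ↔
      x ∈ AW (zl (S : Subgroup G) P₁) (NOne.Flat.WW V F) := by
  set W : Subgroup G := NOne.Flat.WW V F with hW
  have so := h.so
  have hA := h.amb
  have hY : g ∈ P ⊔ P₁ := (le_sup_left : P ≤ P ⊔ P₁) hg
  have hS : MulAut.conj g • (S : Subgroup G) = S := conj_eq_of_norm hN
  have hS' : MulAut.conj g⁻¹ • (S : Subgroup G) = S := conj_eq_of_norm (inv_mem hN)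
  have hLI : MulAut.conj g • (zl (S : Subgroup G) P₁) ≤ V ⊓ B := so.line_le_I hY (by rw [hS]; exact so.WS)
  have hoff2 : OffM (MulAut.conj g • (zl (S : Subgroup G) P₁)) W := offM_of_le so.toHyp (hLI.trans so.toBH.I_le_E) hm
  have hAS : MulAut.conj g⁻¹ • W ≤ (S : Subgroup G) := by
    rw [← hS']
    exact conj_le_iff.2 so.WS
  have hoffA : OffM (zl (S : Subgroup G) P₁) (MulAut.conj g⁻¹ • W) := by
    have h1 := offM_conj hoff2 g⁻¹
    rwa [conj_inv_smul] at h1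
  have hidx : (centralizer ((MulAut.conj g⁻¹ • W : Subgroup G) : Set G)).relIndex (zl (S : Subgroup G) P₁) ≤ Nat.card K := by
    have h1 : (centralizer ((MulAut.conj g⁻¹ • W : Subgroup G) : Set G)).relIndex (zl (S : Subgroup G) P₁) =
        (centralizer (W : Set G)).relIndex (MulAut.conj g • (zl (S : Subgroup G) P₁)) := by
      rw [← conj_centralizer, ← relIndex_pointwise_smul (MulAut.conj g), conj_smul_inv]
    rw [h1, h.card, ← h.idx]
    exact index_le so hLI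
  obtain ⟨i, hi⟩ := one_of_index hA M hAS hoffA hidx
  obtain ⟨t, ht, htj⟩ := exists_one hA M (hi.min hA hoffA) j
  have htL : MulAut.conj t • (zl (S : Subgroup G) P₁) = (zl (S : Subgroup G) P₁) := so.conj_L (so.SP₁ ht)
  have hoffA' : OffM (zl (S : Subgroup G) P₁) (MulAut.conj t • MulAut.conj g⁻¹ • W) := by
    have h1 := offM_conj hoffA t
    rwa [htL] at h1
  have hsame : AW (zl (S : Subgroup G) P₁) W = AW (zl (S : Subgroup G) P₁) (MulAut.conj t • MulAut.conj g⁻¹ • W) := AW_same hA h.one (off_W so) htj hoffA'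
  -- `(t g⁻¹)⁻¹ = g t⁻¹` maps `AW` into `AW`
  have key : ∀ x ∈ AW (zl (S : Subgroup G) P₁) W, g * t⁻¹ * x * (g * t⁻¹)⁻¹ ∈ AW (zl (S : Subgroup G) P₁) W := by
    intro x hx
    rw [hsame] at hx
    have e1 : x = t * g⁻¹ * (g * t⁻¹ * x * (g * t⁻¹)⁻¹) * (t * g⁻¹)⁻¹ := by group
    have e2 : (zl (S : Subgroup G) P₁) = MulAut.conj (t * g⁻¹) • (MulAut.conj g • (zl (S : Subgroup G) P₁)) := by
      rw [conj_conj]
      have e3 : t * g⁻¹ * g = t := by group
      rw [e3, htL]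
    have hx2 : x ∈ AW (MulAut.conj (t * g⁻¹) • (MulAut.conj g • (zl (S : Subgroup G) P₁))) (MulAut.conj (t * g⁻¹) • W) := by
      rw [← e2, ← conj_conj]
      exact hx
    rw [e1] at hx2
    have h3 := AW_conj.1 hx2
    obtain ⟨h4, v, hv, a, ha, h5⟩ := h3
    rw [h5] at h4 ⊢
    exact h.val_of (hLI hv) ha h4
  refine ⟨t⁻¹, inv_mem ht, fun x => ⟨fun hx => ?_, key x⟩⟩
  -- finiteness
  let f : AW (zl (S : Subgroup G) P₁) W → AW (zl (S : Subgroup G) P₁) W := fun x => ⟨g * t⁻¹ * (x : G) * (g * t⁻¹)⁻¹, key x x.2⟩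
  have hf : Function.Injective f := by
    intro x y hxy
    have h1 : g * t⁻¹ * (x : G) * (g * t⁻¹)⁻¹ = g * t⁻¹ * (y : G) * (g * t⁻¹)⁻¹ := congrArg Subtype.val hxy
    exact Subtype.ext (mul_left_cancel (mul_right_cancel h1))
  obtain ⟨y, hy⟩ := Finite.surjective_of_injective hf ⟨_, hx⟩
  have h1 : g * t⁻¹ * (y : G) * (g * t⁻¹)⁻¹ = g * t⁻¹ * x * (g * t⁻¹)⁻¹ := congrArg Subtype.val hy
  have h2 : (y : G) = x := mul_left_cancel (mul_right_cancel h1)
  rw [← h2]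
  exact y.2

/-- **case (i)**, the mirror image -/
theorem case_i' {g : G} (hg : g ∈ P) (hN : g ∈ normalizer ((S : Subgroup G) : Set G))
    (hm : ¬ MulAut.conj g • NOne.Flat.WW V F ≤ centralizer (zl (S : Subgroup G) P₁ : Set G)) :
    ∃ s ∈ (S : Subgroup G), ∀ x, g * s * x * (g * s)⁻¹ ∈ AW (zl (S : Subgroup G) P₁) (NOne.Flat.WW V F) ↔
      x ∈ AW (zl (S : Subgroup G) P₁) (NOne.Flat.WW V F) := by
  have hm' : ¬ NOne.Flat.WW V F ≤ centralizer ((MulAut.conj g⁻¹ • zl (S : Subgroup G) P₁ : Subgroup G) : Set G) := by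
    intro h1
    have h2 := conj_le_centralizer (g := g) h1
    rw [conj_smul_inv] at h2
    exact hm h2
  obtain ⟨s, hs, h1⟩ := h.case_i (inv_mem hg) (inv_mem hN) hm'
  have hs' : g⁻¹ * s⁻¹ * g ∈ (S : Subgroup G) := by
    have h2 := (mem_normalizer_iff.1 (inv_mem hN) s⁻¹).1 (inv_mem hs)
    rwa [inv_inv] at h2
  refine ⟨g⁻¹ * s⁻¹ * g, hs', fun x => ?_⟩
  rw [← h1 (g * (g⁻¹ * s⁻¹ * g) * x * (g * (g⁻¹ * s⁻¹ * g))⁻¹)]
  have e : g⁻¹ * s * (g * (g⁻¹ * s⁻¹ * g) * x * (g * (g⁻¹ * s⁻¹ * g))⁻¹) * (g⁻¹ * s)⁻¹ = x := by group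
  rw [e]

end NSC

end Cfsg.Agent.Omega.NO3S.SOne.NS
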