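import Cfsg.Agent.Omega.NO3S.SOne.Good
import Cfsg.Agent.Omega.NO3S.SOne.NTGen
import Cfsg.Agent.Omega.NO3S.SOne.NS.Fr

/-!
# GammaFF, (S1), the non-split case: generic elements, good and bad lines

* `GenD`, `exists_genD` : generic elements modulo `cv S P₁`;
* `good_of` : (ii), good lines: `Z ∩ R₁^h ≤ C(P₁)`;
* `NSC.line_good` : (iii), `L₁^(g h)` is good.
-/

set_option autoImplicit false
set_option linter.unusedSectionVars false
set_option linter.style.haveILetI false

namespace Cfsg.Agent.Omega.NO3S.SOne.NS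

open Subgroup Cfsg Cfsg.Agent.ZN Cfsg.Agent.ZN.ChoiceBase Cfsg.Agent.Omega.MinPar
open Cfsg.Agent.Omega.NOne.Flat (EE NN conj_eq_of_norm conj_centralizer)
open Cfsg.Agent.Omega.NOne.NearFF (c c_def)
open Cfsg.Agent.Omega.NoFF.Basic (conj_conj mem_conj conj_le_iff conj_le_centralizer comm_symm)
open Cfsg.Agent.Omega.NOThreeL.Low.Key (BH)
open Cfsg.Agent.Omega.FFThm (ElemM OffM NoOverM ConclM NatKM NatK ActsSL relIndex_le_iff)
open Cfsg.Agent.Omega.NatPair (ap ap_mul ap_one ap_inv_ap ap_zero' ap_one' ext2 exists_ap ap_inj)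
open Cfsg.Agent.Omega.FrameFF (cv)
open Cfsg.Agent.Omega.NOThreeL.NF (MinOffM)
open Cfsg.Agent.Omega.NOThreeL.NF.NatR (ap_up ap_lo)
open Cfsg.Agent.Omega.NO3S.SOne.NatD
open Cfsg.Agent.Lib.SL2Mat
open scoped commutatorElement Pointwise

universe u

variable {G : Type u} [Group G]

/-- **A generic element** modulo `cv S P₁`. -/
structure GenD (S P₁ A : Subgroup G) (p : G) : Prop where
  mem : p ∈ P₁
  gen : P₁ ≤ S ⊔ MulAut.conj p⁻¹ • A
  dis : ∀ x ∈ zl S P₁, (∀ s ∈ S, MulAut.conj s • A ≤ centralizer ({x} : Set G)) → p * x * p⁻¹ ∈ ⁅zl S P₁, A⁆ →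
    x ∈ cv S P₁

/-- generic elements exist (754's `exists_gen`) -/
theorem exists_genD [Finite G] {F : Type} [Field F] [Finite F] [CharP F 2] {k : ℕ} {S P : Subgroup G}
    (M : NatKM F S P (zl S P) (cv S P) k)
    (hA : AmbD S P (zl S P) (cv S P)) (hP : IsParS S P) {A : Subgroup G} (hmin : MinOffM (zl S P) S A) :
    ∃ p, GenD S P A p := by
  classical
  have hSP := hP.le
  obtain ⟨i, hr⟩ := One.of_min hA M hmin
  obtain ⟨g, hg, hgac⟩ := M.lift (Pi.mulSingle i (wm 1 one_ne_zero))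
  have hAP : A ≤ P := hmin.le.trans hSP
  refine ⟨g⁻¹, inv_mem hg, ?_, ?_⟩
  · rw [inv_inv]
    obtain ⟨a, ha, hac⟩ := hr.ex (-1)
    have haP := hAP ha
    have h1 := act_mul hA (inv_mem hg) (act_mul hA haP hgac hac) (act_inv hA hg hgac)
    have e1 : (Pi.mulSingle i (wm 1 one_ne_zero) : Fin k → Matrix.SpecialLinearGroup (Fin 2) F) *
        Pi.mulSingle i (up (-1)) * (Pi.mulSingle i (wm 1 one_ne_zero))⁻¹ = Pi.mulSingle i (lo 1) := by
      rw [← Pi.mulSingle_mul, ← Pi.mulSingle_inv, ← Pi.mulSingle_mul]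
      congr 1
      rw [wm_up, mul_inv_cancel_right]
      congr 1
      ring
    rw [e1] at h1
    refine le_of_lo M hA hP le_sup_left (_root_.sup_le hSP ?_)
      ((le_sup_right : MulAut.conj g • A ≤ _) (NOne.Frame.conj_mem ha)) h1
    rintro _ ⟨x, hx, rfl⟩
    exact mul_mem (mul_mem hg (hAP hx)) (inv_mem hg)
  · intro x hx hcx hpx
    have hpe := comm_e (M := M) hA hr hpx
    have h1 : ∀ j, M.e x j 1 = 0 := by
      intro j
      obtain ⟨t, ht, hrt⟩ := exists_one hA M hmin j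
      refine hrt.zero_of_cent hx ?_
      rw [mem_centralizer_iff]
      intro y hy
      have h2 : y ∈ centralizer ({x} : Set G) := hcx t ht hy
      exact mem_centralizer_singleton_iff.1 h2
    have hac' := act_inv hA hg hgac
    have h2 : ∀ j, M.e (g⁻¹ * x * g⁻¹⁻¹) j = ap ((Pi.mulSingle i (wm 1 one_ne_zero) :
        Fin k → Matrix.SpecialLinearGroup (Fin 2) F)⁻¹ j) (M.e x j) := hac'.1 x hx
    have hx0 : M.e x = 0 := by
      funext j
      by_cases hj : j = i
      · subst hj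
        have h3 := hpe.2.1
        rw [h2 j] at h3
        have h4 : ap (wm (1 : F) one_ne_zero) (ap ((Pi.mulSingle j (wm 1 one_ne_zero) :
          Fin k → Matrix.SpecialLinearGroup (Fin 2) F)⁻¹ j) (M.e x j)) = M.e x j := by
          rw [Pi.inv_apply, Pi.mulSingle_eq_same, ← ap_mul, mul_inv_cancel, ap_one]
        refine ext2 ?_ (h1 j)
        rw [← h4, ap_zero', h3, wm_00]
        simp
      · have h3 := hpe.2.2 j hj
        rw [h2 j, Pi.inv_apply, Pi.mulSingle_eq_of_ne hj, inv_one, ap_one] at h3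
        rw [h3]
        rfl
    exact (M.ker x hx).1 hx0


variable [Finite G] {S : Sylow 2 G} {V F B P P₁ : Subgroup G}

/-- **(ii)** (335's `SO.good`, with `[I, W] ≤ ⁅L₁, W⁆` instead of the KEY) -/
theorem good_of (so : SO S V F B P P₁)
    (hk : ∀ x ∈ V ⊓ B, ∀ s ∈ NOne.Flat.WW V F, c x s ∈ (⁅zl (S : Subgroup G) P₁, NOne.Flat.WW V F⁆ : Subgroup G))
    {h g : G} (hh : h ∈ P) (hN : h ∈ normalizer ((S : Subgroup G) : Set G)) (hgm : g ∈ P₁)
    (hgg : P₁ ≤ (S : Subgroup G) ⊔ MulAut.conj g⁻¹ • NOne.Flat.WW V F)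
    (h1 : NOne.Flat.WW V F ≤ centralizer ((MulAut.conj h • zl (S : Subgroup G) P₁ : Subgroup G) : Set G))
    (h2 : MulAut.conj h • NOne.Flat.WW V F ≤ centralizer (zl (S : Subgroup G) P₁ : Set G))
    (hgood : MulAut.conj (g * h) • zl (S : Subgroup G) P₁ ≤ EE V F) :
    zc (S : Subgroup G) ⊓ MulAut.conj h • RR (S : Subgroup G) P₁ (NOne.Flat.WW V F) ≤ centralizer (P₁ : Set G) := by
  set W : Subgroup G := NOne.Flat.WW V F with hW
  set L : Subgroup G := zl (S : Subgroup G) P₁ with hL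
  set d : Subgroup G := MulAut.conj h • L with hd
  have hS : MulAut.conj h • (S : Subgroup G) = S := conj_eq_of_norm hN
  have hhY : h ∈ P ⊔ P₁ := (le_sup_left : P ≤ P ⊔ P₁) hh
  have hgY : g ∈ P ⊔ P₁ := (le_sup_right : P₁ ≤ P ⊔ P₁) hgm
  have hLV : L ≤ V := so.L_le_V
  have hdV : d ≤ V := so.line_le_V hhY
  have hPL : P₁ ≤ normalizer (L : Set G) := so.PL
  have hSd : (S : Subgroup G) ≤ normalizer (d : Set G) := by
    refine le_normalizer_of fun s hs x hx => ?_
    have hs' : h⁻¹ * s * h ∈ (S : Subgroup G) := by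
      have h3 : s ∈ MulAut.conj h • (S : Subgroup G) := by rw [hS]; exact hs
      exact mem_conj.1 h3
    rw [hd, mem_conj] at hx ⊢
    have h3 := (mem_normalizer_iff.1 (hPL (so.SP₁ hs')) _).1 hx
    have e : h⁻¹ * (s * x * s⁻¹) * h = h⁻¹ * s * h * (h⁻¹ * x * h) * (h⁻¹ * s * h)⁻¹ := by group
    rw [e]
    exact h3
  have hdL : d ≤ normalizer (L : Set G) :=
    (hdV.trans (so.comm.trans (centralizer_le hLV))).trans (centralizer_le_normalizer _)
  -- `A = L₂ L₁`
  set A : Subgroup G := d ⊔ L with hA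
  have hAV : A ≤ V := sup_le hdV hLV
  have hgI : MulAut.conj g • d ≤ B := by
    rw [hd, conj_conj]
    exact so.line1 g hgm h hh hN hgood
  have hAI : MulAut.conj g • A ≤ V ⊓ B := by
    refine le_inf ?_ ?_
    · have h3 := conj_le_iff (g := g).2 hAV
      rwa [so.conj_V hgY] at h3
    · rw [hA, Subgroup.smul_sup]
      refine sup_le hgI ?_
      rw [so.conj_L hgm]
      exact so.L_le_I.trans inf_le_right
  have hAW : ∀ x ∈ A, ∀ s ∈ MulAut.conj g⁻¹ • W, c x s ∈ L := by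
    intro x hx s hs
    rw [mem_conj, inv_inv] at hs
    have hx' : g * x * g⁻¹ ∈ V ⊓ B := hAI (NOne.Frame.conj_mem hx)
    have h3 := hk _ hx' _ hs
    have h4 : ⁅L, W⁆ ≤ L := by
      rw [commutator_le]
      intro l hl t ht
      rw [commutatorElement_def, ← c_def]
      exact NOThreeL.Low.Key.c_mem_left hl (hPL (so.SP₁ (so.WS ht)))
    have h5 := (mem_normalizer_iff.1 (hPL (inv_mem hgm)) _).1 (h4 h3)
    have e : g⁻¹ * c (g * x * g⁻¹) (g * s * g⁻¹) * g⁻¹⁻¹ = c x s := by rw [c_def, c_def]; group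
    rwa [e] at h5
  have hSA : (S : Subgroup G) ≤ normalizer (A : Set G) := by
    refine le_normalizer_of fun s hs x hx => ?_
    have h3 : MulAut.conj s • A = A := by
      rw [hA, Subgroup.smul_sup, conj_eq_of_norm (hSd hs), conj_eq_of_norm (hPL (so.SP₁ hs))]
    rw [← h3]
    exact NOne.Frame.conj_mem hx
  have hWA : MulAut.conj g⁻¹ • W ≤ normalizer (A : Set G) := by
    refine le_normalizer_of fun s hs x hx => ?_
    have e : s * x * s⁻¹ = x * c x⁻¹ s := by rw [c_def]; group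
    rw [e]
    exact mul_mem hx (le_sup_right (a := d) (hAW x⁻¹ (inv_mem hx) s hs))
  have hPA : P₁ ≤ normalizer (A : Set G) := hgg.trans (sup_le hSA hWA)
  -- `X = [A, Q]`
  set X : Subgroup G := closure {y | ∃ u ∈ A, ∃ q ∈ o2 P₁, y = c u q} with hX
  have hQS : o2 P₁ ≤ (S : Subgroup G) := so.hP₁.isLoc.o2_le S
  have hQL : o2 P₁ ≤ centralizer (L : Set G) := by
    rw [← so.o2_eq]
    exact inf_le_right
  have hXc : X ≤ d := by
    rw [hX, closure_le]
    rintro y ⟨u, hu, q, hq, rfl⟩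
    obtain ⟨l, hl, x, hx, rfl⟩ := Cfsg.Agent.Omega.NO3S.Pas.mem_sup_of_norm hdL (by rw [sup_comm]; exact hu)
    have hql : q * l⁻¹ * q⁻¹ = l⁻¹ := by
      have h3 := mem_centralizer_iff.1 (hQL hq) l⁻¹ (inv_mem hl)
      rw [← h3, mul_inv_cancel_right]
    have h4 : q * x⁻¹ * q⁻¹ ∈ d := (mem_normalizer_iff.1 (hSd (hQS hq)) _).1 (inv_mem hx)
    have h3 : x * (q * x⁻¹ * q⁻¹) ∈ d := mul_mem hx h4
    have e1 : c (l * x) q = l * (x * (q * x⁻¹ * q⁻¹)) * (q * l⁻¹ * q⁻¹) := by rw [c_def]; group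
    rw [SetLike.mem_coe, e1, hql, so.V_comm (hLV hl) (hdV h3), mul_inv_cancel_right]
    exact h3
  have hPX : P₁ ≤ normalizer (X : Set G) := by
    refine le_normalizer_of fun t ht x hx => ?_
    induction hx using closure_induction with
    | mem x hx =>
      obtain ⟨u, hu, q, hq, rfl⟩ := hx
      refine subset_closure ⟨t * u * t⁻¹, (mem_normalizer_iff.1 (hPA ht) _).1 hu, t * q * t⁻¹,
        (mem_normalizer_iff.1 (MinSimple.VModule.le_normalizer_o2 P₁ ht) _).1 hq, ?_⟩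
      rw [c_def, c_def]
      group
    | one => rw [mul_one, mul_inv_cancel]; exact one_mem _
    | mul x y _ _ hx hy =>
      have e : t * (x * y) * t⁻¹ = t * x * t⁻¹ * (t * y * t⁻¹) := by group
      rw [e]
      exact mul_mem hx hy
    | inv x _ hx =>
      have e : t * x⁻¹ * t⁻¹ = (t * x * t⁻¹)⁻¹ := by group
      rw [e]
      exact inv_mem hx
  -- `R₁^h ≤ X`
  have hW2 : MulAut.conj h • W ≤ o2 P₁ := by
    rw [← so.o2_eq]
    refine le_inf ?_ h2
    rw [← hS]
    exact conj_le_iff.2 so.WS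
  have hR0 : MulAut.conj h • ⁅L, W⁆ ≤ X := by
    rw [conj_commutator, commutator_le]
    intro x hx w hw
    rw [commutatorElement_def, ← c_def]
    exact subset_closure ⟨x, le_sup_left (b := L) hx, w, hW2 hw, rfl⟩
  have hR : MulAut.conj h • RR (S : Subgroup G) P₁ W ≤ X := by
    rw [conj_le_iff', RR]
    refine iSup_le fun s => ?_
    rw [← conj_le_iff', conj_conj]
    have hs' : h * (s : G) * h⁻¹ ∈ (S : Subgroup G) := by
      have h3 : h * (s : G) * h⁻¹ ∈ MulAut.conj h • (S : Subgroup G) := NOne.Frame.conj_mem s.2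
      rwa [hS] at h3
    have e : h * (s : G) = h * (s : G) * h⁻¹ * h := by group
    rw [e, ← conj_conj]
    refine (conj_le_iff.2 hR0).trans ?_
    rw [conj_eq_of_norm (hPX (so.SP₁ hs'))]
  -- `W^(g⁻¹)` centralises `X`
  have hWX : MulAut.conj g⁻¹ • W ≤ centralizer (X : Set G) := by
    have h3 : W ≤ centralizer (X : Set G) := h1.trans (centralizer_le hXc)
    have h4 := conj_le_centralizer (g := g⁻¹) h3
    rwa [conj_eq_of_norm (hPX (inv_mem hgm))] at h4
  rintro z ⟨hz, hzR⟩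
  have hzX : z ∈ X := hR hzR
  rw [mem_centralizer_iff]
  have h5 : P₁ ≤ centralizer ({z} : Set G) := by
    refine hgg.trans (sup_le ?_ ?_)
    · intro s hs
      rw [mem_centralizer_singleton_iff]
      exact ((ZN.mem_zc.mp hz).2.1 s hs)
    · intro s hs
      rw [mem_centralizer_singleton_iff]
      exact (mem_centralizer_iff.1 (hWX hs) z hzX).symm
  intro p hp
  exact mem_centralizer_singleton_iff.1 (h5 hp)

namespace NSC

variable {K : Type} [Field K] [Finite K] {k : ℕ}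
  {M : NatKM K (S : Subgroup G) P₁ (zl (S : Subgroup G) P₁) (cv (S : Subgroup G) P₁) k} {j : Fin k}
  (n : NSC S V F B P P₁ M j)
include n

/-- `[E, B] ≤ [I, W]`: `[e, b] ≠ 1` is a value of `W` on `L₁`. -/
theorem EB_val {e b : G} (he : e ∈ EE V F) (hb : b ∈ B) (h1 : b * e * b⁻¹ * e⁻¹ ≠ 1) :
    b * e * b⁻¹ * e⁻¹ ∈ AW (zl (S : Subgroup G) P₁) (NOne.Flat.WW V F) := by
  have so := n.so
  have hbW := so.toBH.le_W hb
  obtain ⟨w, hw, hwE⟩ := so.toHyp.exists_not_mem
  obtain ⟨s, hs, hse⟩ := so.toHyp.surj hw hwE he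
  have h2 : c e b = c (c w b) s := by
    rw [← so.toHyp.beta_comm hw hs hbW]
    exact (so.toHyp.c_congr_left (so.toHyp.c_memV hw hs) he.1 hbW
      (so.toHyp.inv_mul_mem (so.toHyp.c_memV hw hs) he.1 hse)).symm
  have h3 : c w b ∈ V ⊓ B := so.toBH.c_memI hw hb
  have e1 : b * e * b⁻¹ * e⁻¹ = s * c w b * s⁻¹ * (c w b)⁻¹ := by
    have e2 : b * e * b⁻¹ * e⁻¹ = (c e b)⁻¹ := by rw [c_def]; group
    rw [e2, h2, c_def (c w b) s]
    group
  rw [e1] at h1 ⊢
  exact n.val_of h3 hs h1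

/-- **(iii)** `L₁^(g h)` is good. -/
theorem line_good {h g : G} (hh : h ∈ P) (hN : h ∈ normalizer ((S : Subgroup G) : Set G))
    (hg : GenD (S : Subgroup G) P₁ (NOne.Flat.WW V F) g)
    (h1 : NOne.Flat.WW V F ≤ centralizer ((MulAut.conj h • zl (S : Subgroup G) P₁ : Subgroup G) : Set G)) :
    MulAut.conj (g * h) • zl (S : Subgroup G) P₁ ≤ EE V F := by
  have so := n.so
  have hA := n.amb
  have hY : g * h ∈ P ⊔ P₁ := mul_mem ((le_sup_right : P₁ ≤ P ⊔ P₁) hg.mem) ((le_sup_left : P ≤ P ⊔ P₁) hh)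
  have hS : MulAut.conj h • (S : Subgroup G) = S := conj_eq_of_norm hN
  have hSi : MulAut.conj h⁻¹ • (S : Subgroup G) = S := conj_eq_of_norm (inv_mem hN)
  by_contra hbad
  obtain ⟨w, hwL, hwE⟩ := SetLike.not_le_iff_exists.1 hbad
  have hLV : MulAut.conj (g * h) • zl (S : Subgroup G) P₁ ≤ V := so.line_le_V hY
  have hwV := hLV hwL
  -- `B` acts on `L₁` as `B^((g h)⁻¹) ≤ S`
  have hBS : MulAut.conj (g * h)⁻¹ • B ≤ (S : Subgroup G) := by
    rw [mul_inv_rev, ← conj_conj, ← hSi]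
    refine conj_le_iff.2 ?_
    rw [conj_le_iff', inv_inv]
    exact so.BS g hg.mem
  -- `[E ∩ L*, B] = 1`
  have hEB : ∀ e ∈ EE V F, e ∈ MulAut.conj (g * h) • zl (S : Subgroup G) P₁ → ∀ b ∈ B, b * e * b⁻¹ * e⁻¹ = 1 := by
    intro e he heL b hb
    by_contra hne
    have h2 := n.EB_val he hb hne
    set x := b * e * b⁻¹ * e⁻¹ with hx
    -- `x ∈ L*`
    have hxL : x ∈ MulAut.conj (g * h) • zl (S : Subgroup G) P₁ := by
      have hbL : b * e * b⁻¹ ∈ MulAut.conj (g * h) • zl (S : Subgroup G) P₁ := by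
        rw [mem_conj] at heL ⊢
        have h3 : (g * h)⁻¹ * b * (g * h) ∈ (S : Subgroup G) := by
          refine hBS ?_
          rw [mem_conj]
          have e3 : ((g * h)⁻¹)⁻¹ * ((g * h)⁻¹ * b * (g * h)) * (g * h)⁻¹ = b := by group
          rwa [e3]
        have h4 := (mem_normalizer_iff.1 (so.PL (so.SP₁ h3)) _).1 heL
        have e4 : (g * h)⁻¹ * b * (g * h) * ((g * h)⁻¹ * e * (g * h)) * ((g * h)⁻¹ * b * (g * h))⁻¹ =
          (g * h)⁻¹ * (b * e * b⁻¹) * (g * h) := by group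
        rwa [e4] at h4
      exact mul_mem hbL (inv_mem heL)
    have hxP : x ∈ (⁅zl (S : Subgroup G) P₁, NOne.Flat.WW V F⁆ : Subgroup G) := AW_le h2
    have hxL₁ : x ∈ zl (S : Subgroup G) P₁ := (comm_e hA n.one hxP).1
    -- `g⁻¹ x g`
    have hy : g⁻¹ * x * g ∈ zl (S : Subgroup G) P₁ := by
      have h3 := (mem_normalizer_iff.1 (so.PL (inv_mem hg.mem)) _).1 hxL₁
      rwa [inv_inv] at h3
    have hyd : g⁻¹ * x * g ∈ MulAut.conj h • zl (S : Subgroup G) P₁ := by
      rw [← conj_conj, mem_conj] at hxL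
      exact hxL
    have h3 := hg.dis _ hy (fun s hs => by
      -- `W^s` centralises `L₁^h`
      have h4 : MulAut.conj s • (MulAut.conj h • zl (S : Subgroup G) P₁) = MulAut.conj h • zl (S : Subgroup G) P₁ := by
        have hs' : h⁻¹ * s * h ∈ (S : Subgroup G) := by
          have h5 : s ∈ MulAut.conj h • (S : Subgroup G) := by rw [hS]; exact hs
          exact mem_conj.1 h5
        have e3 : MulAut.conj s • (MulAut.conj h • zl (S : Subgroup G) P₁) =
            MulAut.conj h • (MulAut.conj (h⁻¹ * s * h) • zl (S : Subgroup G) P₁) := by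
          rw [conj_conj, conj_conj]
          congr 2
          group
        rw [e3, so.conj_L (so.SP₁ hs')]
      have h5 := conj_le_centralizer (g := s) h1
      rw [h4] at h5
      exact h5.trans (centralizer_le (Set.singleton_subset_iff.2 hyd))) (by
      have e3 : g * (g⁻¹ * x * g) * g⁻¹ = x := by group
      rw [e3]
      exact hxP)
    have h4 : x ∈ cv (S : Subgroup G) P₁ := by
      have h5 := hA.cmD hg.mem h3
      have e3 : g * (g⁻¹ * x * g) * g⁻¹ = x := by group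
      rwa [e3] at h5
    exact AW_not_D hA n.one (off_W so) h2 h4
  -- `NoOver`
  set A : Subgroup G := MulAut.conj (g * h)⁻¹ • B with hAd
  have hAP : A ≤ P₁ := hBS.trans so.SP₁
  have hLe : MulAut.conj (g * h) • A = B := conj_smul_inv _ _
  have hcV : ∀ x, (g * h) * x * (g * h)⁻¹ ∈ centralizer (V : Set G) →
      x ∈ centralizer (zl (S : Subgroup G) P₁ : Set G) := by
    intro x hx
    rw [mem_centralizer_iff]
    intro l hl
    have h3 : (g * h) * l * (g * h)⁻¹ ∈ V := hLV (NOne.Frame.conj_mem hl)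
    have h4 := mem_centralizer_iff.1 hx _ h3
    calc l * x = (g * h)⁻¹ * ((g * h) * l * (g * h)⁻¹ * ((g * h) * x * (g * h)⁻¹)) * (g * h) := by group
      _ = (g * h)⁻¹ * ((g * h) * x * (g * h)⁻¹ * ((g * h) * l * (g * h)⁻¹)) * (g * h) := by rw [h4]
      _ = x * l := by group
  have hmemB : ∀ a ∈ A, (g * h) * a * (g * h)⁻¹ ∈ B := by
    intro a ha
    rw [← hLe]
    exact NOne.Frame.conj_mem ha
  have hel : ElemM (zl (S : Subgroup G) P₁) A := by
    refine ⟨fun a ha => hcV _ ?_, fun a ha b hb => hcV _ ?_⟩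
    · have h3 := so.toHyp.elemM_W.sq _ (so.toBH.le_W (hmemB a ha))
      have e3 : (g * h) * a ^ 2 * (g * h)⁻¹ = ((g * h) * a * (g * h)⁻¹) ^ 2 := by
        rw [pow_two, pow_two]; group
      rw [e3]; exact h3
    · have h3 := so.toHyp.elemM_W.comm _ (so.toBH.le_W (hmemB a ha)) _ (so.toBH.le_W (hmemB b hb))
      have e3 : (g * h) * (a * b * a⁻¹ * b⁻¹) * (g * h)⁻¹ = (g * h) * a * (g * h)⁻¹ * ((g * h) * b * (g * h)⁻¹) *
          ((g * h) * a * (g * h)⁻¹)⁻¹ * ((g * h) * b * (g * h)⁻¹)⁻¹ := by group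
      rw [e3]; exact h3
  have h3 : (centralizer (zl (S : Subgroup G) P₁ : Set G)).relIndex A ≤
      (centralizer (A : Set G)).relIndex (zl (S : Subgroup G) P₁) := relIndex_le_iff.1 (n.no _ hAP hel)
  -- `|I : F| = |B : B ∩ N| ≤ |B : C_B(L*)|`
  have h4 : F.relIndex (V ⊓ B) ≤ (centralizer ((MulAut.conj (g * h) • zl (S : Subgroup G) P₁ : Subgroup G) : Set G)).relIndex B := by
    rw [← so.toBH.relIndex_B]
    have h5 : B ⊓ centralizer ((MulAut.conj (g * h) • zl (S : Subgroup G) P₁ : Subgroup G) : Set G) ≤ NN V F := by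
      rintro b ⟨hb, hbc⟩
      refine so.toBH.mem_NN_of_c hwV hwE hb ?_
      have h6 := mem_centralizer_iff.1 hbc w hwL
      have e3 : c w b = 1 := by
        rw [c_def, h6]; group
      rw [e3]; exact one_mem _
    rw [← inf_relIndex_left B (centralizer _)]
    exact relIndex_le_of_le_left h5 rne
  have h5 : (centralizer ((MulAut.conj (g * h) • zl (S : Subgroup G) P₁ : Subgroup G) : Set G)).relIndex B =
      (centralizer (zl (S : Subgroup G) P₁ : Set G)).relIndex A := by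
    rw [← conj_centralizer, ← hLe, relIndex_pointwise_smul]
  -- `|L* : C(B)| ≤ |V : E|`
  have h6 : (centralizer (A : Set G)).relIndex (zl (S : Subgroup G) P₁) ≤ (EE V F).relIndex V := by
    rw [← relIndex_pointwise_smul (MulAut.conj (g * h)), conj_centralizer, hLe]
    have h7 : EE V F ⊓ MulAut.conj (g * h) • zl (S : Subgroup G) P₁ ≤ centralizer (B : Set G) := by
      rintro e ⟨he, heL⟩
      rw [mem_centralizer_iff]
      intro b hb
      have h8 := hEB e he heL b hb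
      rw [mul_inv_eq_one, mul_inv_eq_iff_eq_mul] at h8
      exact h8
    rw [← inf_relIndex_right (centralizer (B : Set G))]
    refine (relIndex_le_of_le_left (H := EE V F ⊓ MulAut.conj (g * h) • zl (S : Subgroup G) P₁)
      (le_inf h7 inf_le_right) rne).trans ?_
    rw [inf_relIndex_right]
    exact relIndex_le_of_le_right hLV rne
  have h7 := n.lt
  have h8 := n.idx
  rw [h5] at h4
  omega

end NSC

end Cfsg.Agent.Omega.NO3S.SOne.NS
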