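import Cfsg.Agent.Omega.NO3S.SOne.NS.Line
import Cfsg.Agent.Omega.NO3S.KeyRad.Main

/-!
# GammaFF, (S1), the non-split case: the end

* `false_ns'` : the pure end;
* `NSC.dich` : `(h s)` preserves `AW`: `X = (⁅L₁, W⁆ ∩ D)^(h s)` is in `D` or in `MM`;
* `SO.false_of_NS` : **(S1), NS**.
-/

set_option autoImplicit false
set_option linter.unusedSectionVars false
set_option linter.style.haveILetI false

namespace Cfsg.Agent.Omega.NO3S.SOne.NS

open Subgroup Cfsg Cfsg.Agent.ZN Cfsg.Agent.ZN.ChoiceBase Cfsg.Agent.Omega.MinPar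
open Cfsg.Agent.Omega.NOne.Flat (EE NN conj_eq_of_norm conj_centralizer)
open Cfsg.Agent.Omega.NOne.NearFF (c c_def)
open Cfsg.Agent.Omega.NoFF.Basic (conj_conj mem_conj conj_le_iff conj_le_centralizer comm_symm)
open Cfsg.Agent.Omega.FFThm (ElemM OffM NoOverM ConclM NatKM NatK ActsSL relIndex_le_iff)
open Cfsg.Agent.Omega.FrameFF (cv)
open Cfsg.Agent.Omega.NO3S.SOne.NatD
open Cfsg.Agent.Omega.NO3S.SOne.Trans (Cl Cl_le conj_le_Cl le_Cl Cl_conj conj_Cl le_or_le)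
open scoped commutatorElement Pointwise

universe u

variable {G : Type u} [Group G]

/-- **The pure end.** -/
theorem false_ns' {Z R C₁ C₂ : Subgroup G} (N : Set G)
    (htr : ∀ x ∈ Z, x ≠ 1 → ∀ y ∈ Z, y ≠ 1 → ∃ h ∈ N, h * x * h⁻¹ = y)
    (hNZ : ∀ h ∈ N, MulAut.conj h • Z = Z) (hC : C₁ ≤ Z) (hC1 : C₁ ≠ ⊥) (hne : ¬ Z ⊓ R ≤ C₁)
    (hC2 : ¬ Z ≤ C₂)
    (h : ∀ h ∈ N, (MulAut.conj h • R = R ∧ (C₁ ≤ R → MulAut.conj h • C₁ ≤ C₁ ∨ MulAut.conj h • C₁ ≤ C₂)) ∨
      Z ⊓ MulAut.conj h • R ≤ C₁) : False := by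
  have h0 : Z ⊓ R ≠ ⊥ := fun h0 => hne (h0 ▸ bot_le)
  have hZC : ¬ Z ≤ C₁ := fun h1 => hne (inf_le_left.trans h1)
  have h1 := le_or_le N htr (A₀ := Z ⊓ R) (A := R) (B := C₁) inf_le_left h0 (fun g hg => by
    rcases h g hg with h2 | h2
    · left
      conv_rhs => rw [← h2.1]
      exact smul_mono_right _ inf_le_right
    · right
      rw [smul_inf, hNZ g hg]
      exact h2)
  have hZR : Z ≤ R := h1.resolve_right hZC
  have h3 := le_or_le N htr (A₀ := C₁) (A := C₁) (B := C₂) hC hC1 (fun g hg => by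
    rcases h g hg with h2 | h2
    · exact h2.2 (hC.trans hZR)
    · exfalso
      apply hZC
      refine le_trans (le_inf le_rfl ?_) h2
      rw [← hNZ g hg]
      exact smul_mono_right _ hZR)
  rcases h3 with h3 | h3
  · exact hZC h3
  · exact hC2 h3

theorem conj_zc_eq [Finite G] {S : Subgroup G} {g : G} (hg : g ∈ normalizer (S : Set G)) :
    MulAut.conj g • zc S = zc S := by
  have key : ∀ g ∈ normalizer (S : Set G), ∀ x ∈ zc S, g * x * g⁻¹ ∈ zc S := by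
    intro g hg x hx
    obtain ⟨h1, h2, h3⟩ := ChoiceBase.mem_zc.1 hx
    refine ChoiceBase.mem_zc.2 ⟨(mem_normalizer_iff.1 hg x).1 h1, ?_, ?_⟩
    · have e : (g * x * g⁻¹) ^ 2 = g * x ^ 2 * g⁻¹ := by rw [pow_two, pow_two]; group
      rw [e, h2, mul_one, mul_inv_cancel]
    · intro s hs
      have h4 : g⁻¹ * s * g ∈ S := by
        have h5 := (mem_normalizer_iff.1 (inv_mem hg) s).1 hs
        rwa [inv_inv] at h5
      have h6 := h3 _ h4
      calc s * (g * x * g⁻¹) = g * (g⁻¹ * s * g * x) * g⁻¹ := by group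
        _ = g * (x * (g⁻¹ * s * g)) * g⁻¹ := by rw [h6]
        _ = g * x * g⁻¹ * s := by group
  refine Subgroup.eq_of_le_of_card_ge ?_ (NOne.Choice.card_conj g (zc S)).ge
  intro x hx
  have h1 := key g hg _ (mem_conj.1 hx)
  have e : g * (g⁻¹ * x * g) * g⁻¹ = x := by group
  rwa [e] at h1

variable [Finite G] {S : Sylow 2 G} {V F B P P₁ : Subgroup G}

namespace NSC

variable {K : Type} [Field K] [Finite K] {k : ℕ}
  {M : NatKM K (S : Subgroup G) P₁ (zl (S : Subgroup G) P₁) (cv (S : Subgroup G) P₁) k} {j : Fin k}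
  (n : NSC S V F B P P₁ M j)
include n

/-- `g` preserves `AW`: it normalises `⁅L₁, W⁆` -/
theorem conj_comm_of {g : G} (hg : ∀ x, g * x * g⁻¹ ∈ AW (zl (S : Subgroup G) P₁) (NOne.Flat.WW V F) ↔
    x ∈ AW (zl (S : Subgroup G) P₁) (NOne.Flat.WW V F)) :
    MulAut.conj g • ⁅zl (S : Subgroup G) P₁, NOne.Flat.WW V F⁆ = ⁅zl (S : Subgroup G) P₁, NOne.Flat.WW V F⁆ := by
  refine Subgroup.eq_of_le_of_card_ge ?_ (NOne.Choice.card_conj g _).ge
  rw [conj_le_iff']
  refine comm_le_of_AW fun x hx => ?_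
  rw [mem_conj, inv_inv]
  exact AW_le ((hg x).2 hx)

/-- **the dichotomy** -/
theorem dich [Fintype K] [CharP K 2] {g : G}
    (hg : ∀ x, g * x * g⁻¹ ∈ AW (zl (S : Subgroup G) P₁) (NOne.Flat.WW V F) ↔
      x ∈ AW (zl (S : Subgroup G) P₁) (NOne.Flat.WW V F)) :
    MulAut.conj g • (⁅zl (S : Subgroup G) P₁, NOne.Flat.WW V F⁆ ⊓ cv (S : Subgroup G) P₁) ≤ cv (S : Subgroup G) P₁ ∨
    MulAut.conj g • (⁅zl (S : Subgroup G) P₁, NOne.Flat.WW V F⁆ ⊓ cv (S : Subgroup G) P₁) ≤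
      MM n.amb n.one (off_W n.so) := by
  have hA := n.amb
  have hoff := off_W n.so
  have h4 : Fintype.card K = 4 := by rw [← Nat.card_eq_fintype_card]; exact n.card
  set X := MulAut.conj g • (⁅zl (S : Subgroup G) P₁, NOne.Flat.WW V F⁆ ⊓ cv (S : Subgroup G) P₁) with hX
  have hXP : X ≤ ⁅zl (S : Subgroup G) P₁, NOne.Flat.WW V F⁆ := by
    rw [hX]
    conv_rhs => rw [← n.conj_comm_of hg]
    exact conj_le_iff.2 inf_le_left
  have hXA : ∀ x ∈ X, x ∉ AW (zl (S : Subgroup G) P₁) (NOne.Flat.WW V F) := by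
    intro x hx hxA
    rw [hX, mem_conj] at hx
    have h1 : g⁻¹ * x * g ∈ AW (zl (S : Subgroup G) P₁) (NOne.Flat.WW V F) := by
      rw [← hg]
      have e : g * (g⁻¹ * x * g) * g⁻¹ = x := by group
      rwa [e]
    exact AW_not_D hA n.one hoff h1 hx.2
  by_cases hXD : X ≤ cv (S : Subgroup G) P₁
  · exact Or.inl hXD
  right
  obtain ⟨y, hy, hyD⟩ := SetLike.not_le_iff_exists.1 hXD
  have hXD1 : ∀ x ∈ X, x ∈ cv (S : Subgroup G) P₁ → x = 1 := by
    intro x hx hxD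
    by_contra hx1
    rcases star_AW hA n.one hoff h4 (hXP hx) hxD hx1 (hXP hy) hyD with h1 | h1
    · exact hXA y hy h1
    · exact hXA _ (mul_mem hx hy) h1
  intro x hx
  by_cases hx1 : x = 1
  · rw [hx1]; exact one_mem _
  · exact mem_MM hA n.one hoff h4 (hXP hx) (fun hxD => hx1 (hXD1 x hx hxD)) (hXA x hx)

end NSC

/-- **(S1), the non-split case.** -/
theorem false_of_nsc {K : Type} [Field K] [Fintype K] [CharP K 2] {k : ℕ}
    {M : NatKM K (S : Subgroup G) P₁ (zl (S : Subgroup G) P₁) (cv (S : Subgroup G) P₁) k} {j : Fin k}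
    (n : NSC S V F B P P₁ M j)
    (htr : ∀ x ∈ zc (S : Subgroup G), x ≠ 1 → ∀ y ∈ zc (S : Subgroup G), y ≠ 1 →
      ∃ h ∈ P, h ∈ normalizer ((S : Subgroup G) : Set G) ∧ h * x * h⁻¹ = y)
    (hC : zc (S : Subgroup G) ⊓ centralizer (P₁ : Set G) ≠ ⊥) : False := by
  have so := n.so
  have hA := n.amb
  have hoff := off_W so
  have h4 : Fintype.card K = 4 := by rw [← Nat.card_eq_fintype_card]; exact n.card
  set W := NOne.Flat.WW V F with hW
  have hCD : zc (S : Subgroup G) ⊓ centralizer (P₁ : Set G) ≤ zc (S : Subgroup G) ⊓ (cv (S : Subgroup G) P₁) := fun x hx =>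
    ⟨hx.1, MinSimple.VModule.zc_le_zl _ _ hx.1, centralizer_le (MinSimple.VModule.oddGen_le P₁) hx.2⟩
  have hSD : ∀ s ∈ (S : Subgroup G), MulAut.conj s • (cv (S : Subgroup G) P₁) = (cv (S : Subgroup G) P₁) := fun s hs => conj_eq_of_norm (hA.PD (so.SP₁ hs))
  -- `U`
  have hUR : UU hA n.one hoff ≤ RR (S : Subgroup G) P₁ W := UU_le hA n.one hoff
  have hUD : UU hA n.one hoff ⊓ (cv (S : Subgroup G) P₁) = ⊥ := UU_inf hA n.one hoff h4
  have hUS : UU hA n.one hoff ≤ (S : Subgroup G) := hUR.trans (so.RR_le_L.trans so.L_le_S)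
  have hSU : (S : Subgroup G) ≤ normalizer (UU hA n.one hoff : Set G) := by
    refine le_normalizer_of fun s hs x hx => ?_
    have h1 : MulAut.conj s • UU hA n.one hoff = UU hA n.one hoff := conj_fam hs
    rw [← h1]
    exact NOne.Frame.conj_mem hx
  obtain ⟨z, hzU, hz1, hzS⟩ := NoFF.LinesPlug.exists_fixed S.isPGroup' hUS hSU (UU_ne hA n.one hoff h4)
  have hzZ : z ∈ zc (S : Subgroup G) :=
    ChoiceBase.mem_zc.2 ⟨hUS hzU, so.toHyp.sq z (so.L_le_V (so.RR_le_L (hUR hzU))), hzS⟩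
  have hzD : z ∉ (cv (S : Subgroup G) P₁) := fun h1 => hz1 (mem_bot.1 (hUD ▸ ⟨hzU, h1⟩))
  refine false_ns' (Z := zc (S : Subgroup G)) (R := RR (S : Subgroup G) P₁ W) (C₁ := zc (S : Subgroup G) ⊓ (cv (S : Subgroup G) P₁))
    (C₂ := UU hA n.one hoff) {h | h ∈ P ∧ h ∈ normalizer ((S : Subgroup G) : Set G)} ?_ ?_ inf_le_left ?_ ?_ ?_ ?_
  · intro x hx hx1 y hy hy1
    obtain ⟨h, hh, hN, e⟩ := htr x hx hx1 y hy hy1
    exact ⟨h, ⟨hh, hN⟩, e⟩
  · exact fun h hh => conj_zc_eq hh.2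
  · exact fun h0 => hC (eq_bot_iff.2 (hCD.trans h0.le))
  · exact fun h1 => hzD (h1 ⟨hzZ, hUR hzU⟩).2
  · intro h1
    apply hC
    refine eq_bot_iff.2 (hCD.trans ?_)
    rw [← hUD]
    exact le_inf (inf_le_left.trans h1) inf_le_right
  · rintro h ⟨hh, hN⟩
    have key : (∃ s ∈ (S : Subgroup G), ∀ x, h * s * x * (h * s)⁻¹ ∈ AW (zl (S : Subgroup G) P₁) W ↔
        x ∈ AW (zl (S : Subgroup G) P₁) W) ∨
        zc (S : Subgroup G) ⊓ MulAut.conj h • RR (S : Subgroup G) P₁ W ≤ centralizer (P₁ : Set G) := by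
      by_cases h1 : W ≤ centralizer ((MulAut.conj h • zl (S : Subgroup G) P₁ : Subgroup G) : Set G)
      · by_cases h2 : MulAut.conj h • W ≤ centralizer (zl (S : Subgroup G) P₁ : Set G)
        · right
          obtain ⟨g, hg⟩ := exists_genD M hA so.hP₁ (n.one.min hA hoff)
          exact good_of so (fun x hx s hs => n.c_mem hx hs) hh hN hg.mem hg.gen h1 h2 (n.line_good hh hN hg h1)
        · exact Or.inl (n.case_i' hh hN h2)
      · exact Or.inl (n.case_i hh hN h1)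
    rcases key with ⟨s, hs, hsA⟩ | h1
    · left
      have hPi := n.conj_comm_of hsA
      rw [← conj_conj] at hPi
      constructor
      · rw [RR_eq_Cl, ← Cl_conj hs, conj_Cl hN, hPi, Cl_conj hs]
      · intro hCR
        -- `C₁^h ≤ ⟨X^S⟩`
        have h2 : zc (S : Subgroup G) ⊓ (cv (S : Subgroup G) P₁) ≤ Cl (S : Subgroup G) (⁅zl (S : Subgroup G) P₁, W⁆ ⊓ (cv (S : Subgroup G) P₁)) := by
          refine (le_inf hCR inf_le_right).trans ((RR_inf hA n.one hoff).trans (iSup_le fun s => ?_))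
          exact conj_le_Cl s.2
        have h3 : MulAut.conj h • (zc (S : Subgroup G) ⊓ (cv (S : Subgroup G) P₁)) ≤
            Cl (S : Subgroup G) (MulAut.conj (h * s) • (⁅zl (S : Subgroup G) P₁, W⁆ ⊓ (cv (S : Subgroup G) P₁))) := by
          refine (conj_le_iff.2 h2).trans ?_
          rw [← Cl_conj hs, conj_Cl hN, conj_conj]
        rcases n.dich hsA with h5 | h5
        · left
          refine le_inf ?_ (h3.trans (Cl_le fun t ht => ?_))
          · exact (conj_le_iff.2 inf_le_left).trans (conj_zc_eq hN).le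
          · exact (conj_le_iff.2 h5).trans (hSD t ht).le
        · right
          refine h3.trans (Cl_le fun t ht => ?_)
          refine (conj_le_iff.2 h5).trans ?_
          exact le_iSup (fun s : (S : Subgroup G) => MulAut.conj (s : G) • MM hA n.one hoff) ⟨t, ht⟩
    · right
      refine le_inf inf_le_left ?_
      exact ((le_inf inf_le_left h1).trans hCD).trans inf_le_right

/-- **(S1), the non-split case**: `|I : F| = 4`, `|V : E| = 2`, `P₁` natural over a field with more than 2 elements. -/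
theorem _root_.Cfsg.Agent.Omega.NO3S.SOne.SO.false_of_NS (so : SO S V F B P P₁)
    (hNB : KeyRad.NatBig (S : Subgroup G) P₁) (h4 : F.relIndex (V ⊓ B) = 4) (h2 : (EE V F).relIndex V < 4)
    (no : NoOverM (zl (S : Subgroup G) P₁) P₁)
    (htr : ∀ x ∈ zc (S : Subgroup G), x ≠ 1 → ∀ y ∈ zc (S : Subgroup G), y ≠ 1 →
      ∃ h ∈ P, h ∈ normalizer ((S : Subgroup G) : Set G) ∧ h * x * h⁻¹ = y)
    (hC : zc (S : Subgroup G) ⊓ centralizer (P₁ : Set G) ≠ ⊥) : False := by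
  obtain ⟨K, _, _, _, k, -, hK, ⟨M⟩⟩ := hNB
  haveI := Fintype.ofFinite K
  obtain ⟨j, n⟩ := exists_nsc so M hK h4 h2 no
  exact false_of_nsc n htr hC

end Cfsg.Agent.Omega.NO3S.SOne.NS
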